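import Cfsg.Agent.H88.Fi24Cent.K0
import Cfsg.Prelude.Def_Transfer

/-!
The subgroup of order three and its centraliser inside the centraliser of the central involution.
-/

set_option autoImplicit false
set_option maxHeartbeats 400000

namespace H88.Fi24Cent

open H16.Fi24
open scoped commutatorElement

universe u

theorem wW_inj : ∀ a : F4, mu (0, 1) a = a → a = 0 := by decide

theorem wW_eq_self {v : W} (h : wW v = v) : v = 0 :=
  funext fun i => wW_inj _ (congrFun h i)

theorem one_add_w : ∀ a : F4, mu (0, 1) a + mu (0, 1) (mu (0, 1) a) = a := by decide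

theorem one_add_wW (v : W) : wW v + wW (wW v) = v := funext fun i => one_add_w (v i)

theorem zpowers_wEl_le : Subgroup.zpowers wEl ≤ K0 := Subgroup.zpowers_le.2 wEl_mem

theorem orderOf_wEl : orderOf wEl = 3 :=
  orderOf_eq_prime wEl_pow_three wEl_ne_one

theorem card_zpowers_wEl : Nat.card (Subgroup.zpowers wEl) = 3 := by
  rw [Nat.card_zpowers, orderOf_wEl]

theorem mono_pow_three (d : Fin 6 → ZMod 3) : mono 1 d ^ 3 = 1 := by
  have e : mono 1 d ^ 3 = mono 1 (d + d + d) := by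
    rw [pow_succ, pow_two, mono_mul, mono_mul]
    simp only [mul_one]
    rfl
  rw [e, ← mono_one]
  refine congrArg _ (funext fun i => ?_)
  show d i + d i + d i = 0
  generalize d i = a
  revert a; decide

theorem pow_three_E1 {g : Equiv.Perm W} (hg : g ∈ E1) : g ^ 3 = 1 := by
  obtain ⟨d, -, rfl⟩ := mem_E1.1 hg
  exact mono_pow_three d

theorem pow_three_E2 {g : Equiv.Perm W} (hg : g ∈ E2) : g ^ 3 = 1 := by
  obtain ⟨d, -, rfl⟩ := mem_E2.1 hg
  have e : TW * mono 1 d * TW = TW * mono 1 d * TW⁻¹ := by rw [TW_inv]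
  rw [e, conj_pow, mono_pow_three, mul_one, mul_inv_cancel]

/-- A group of order three of additive maps normalised by the group is the group of scalars. -/
theorem eq_zpowers_wEl (Y : Subgroup (Equiv.Perm W)) (hY : Nat.card Y = 3)
    (hadd : ∀ y ∈ Y, ∀ u v, y (u + v) = y u + y v)
    (hn : ∀ g ∈ K0, ∀ y ∈ Y, g * y * g⁻¹ ∈ Y) : Y = Subgroup.zpowers wEl := by
  have hc : ∀ g ∈ K0, g ^ 3 = 1 → ∀ y ∈ Y, Commute y g := by
    intro g hg h3 y hy
    by_cases hy1 : y = 1
    · subst hy1; exact Commute.one_left g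
    have hord : orderOf y = 3 := by
      have h := Subgroup.orderOf_dvd_natCard Y hy
      rw [hY] at h
      rcases (Nat.dvd_prime Nat.prime_three).1 h with h | h
      · exact absurd (orderOf_eq_one_iff.1 h) hy1
      · exact h
    have hmem : g * y * g⁻¹ ∈ Subgroup.zpowers y := by
      have : Subgroup.zpowers y = Y := Subgroup.eq_of_le_of_card_ge (Subgroup.zpowers_le.2 hy)
        (by rw [Nat.card_zpowers, hord, hY])
      rw [this]; exact hn g hg y hy
    obtain ⟨k, hk⟩ := Subgroup.mem_zpowers_iff.1 hmem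
    have hk' : y ^ k = y ^ (k % 3) := by
      conv_lhs => rw [← zpow_mod_orderOf, hord]
      rfl
    have hlt : k % 3 = 0 ∨ k % 3 = 1 ∨ k % 3 = 2 := by omega
    rcases hlt with h | h | h
    · rw [hk', h, zpow_zero] at hk
      exact absurd (conj_eq_one_iff.1 hk.symm) hy1
    · rw [hk', h, zpow_one] at hk
      exact (mul_inv_eq_iff_eq_mul.1 hk.symm).symm
    · rw [hk', h] at hk
      have e2 : g * y * g⁻¹ = y * y := by rw [← hk, zpow_two]
      have e4 : g * (g * y * g⁻¹) * g⁻¹ = y := by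
        rw [e2, show g * (y * y) * g⁻¹ = g * y * g⁻¹ * (g * y * g⁻¹) by group, e2]
        calc y * y * (y * y) = y ^ 3 * y := by simp [pow_succ, mul_assoc]
          _ = y := by rw [← hord, pow_orderOf_eq_one, one_mul]
      have e8 : g ^ 3 * y * (g ^ 3)⁻¹ = y * y := by
        rw [show g ^ 3 * y * (g ^ 3)⁻¹ = g * (g * (g * y * g⁻¹) * g⁻¹) * g⁻¹ by
          simp [pow_succ, mul_assoc], e4, e2]
      rw [h3] at e8
      simp only [one_mul, inv_one, mul_one] at e8
      exact absurd (left_eq_mul.1 e8) hy1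
  have hle : Y ≤ Subgroup.zpowers wEl := fun y hy =>
    scalar_of_comm y (hadd y hy) (fun g hg => hc g (Subgroup.mem_sup_left hg) (pow_three_E1 hg) y hy)
      (fun g hg => hc g (Subgroup.mem_sup_right hg) (pow_three_E2 hg) y hy)
  exact Subgroup.eq_of_le_of_card_ge hle (by rw [card_zpowers_wEl, hY])

/-- The centre of the group consists of the scalars. -/
theorem center_K0 {g : Equiv.Perm W} (hg : g ∈ K0) (h : ∀ k ∈ K0, g * k = k * g) :
    g ∈ Subgroup.zpowers wEl :=
  scalar_of_comm g (isUni_K0 hg).add (fun k hk => h k (Subgroup.mem_sup_left hk))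
    (fun k hk => h k (Subgroup.mem_sup_right hk))

variable {G : Type u} [Group G] {z : G} {Q : Subgroup (Subgroup.centralizer ({z} : Set G))}

/-- The involution as an element of its centraliser. -/
def zH (z : G) : Subgroup.centralizer ({z} : Set G) :=
  ⟨z, Subgroup.mem_centralizer_singleton_iff.2 rfl⟩

theorem zH_comm (h : Subgroup.centralizer ({z} : Set G)) : zH z * h = h * zH z :=
  Subtype.ext (Subgroup.mem_centralizer_singleton_iff.1 h.2).symm

variable (D : Model z Q)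

theorem eq_zero' {x : Subgroup.centralizer ({z} : Set G)} (hx : x ∈ Q) (h : D.Φ x = 0) :
    x = 1 ∨ x = zH z := by
  rcases (D.eq_zero x hx).1 h with h | h
  · exact Or.inl (Subtype.ext h)
  · exact Or.inr (Subtype.ext h)

include D in
theorem zH_mem (hE : Cfsg.IsExtraspecial 2 Q) : zH z ∈ Q := by
  have : Finite (Subgroup.center Q) := Nat.finite_of_card_ne_zero (by rw [hE.2]; norm_num)
  obtain ⟨⟨⟨c, hc⟩, hcc⟩, hne⟩ : ∃ c : Subgroup.center Q, c ≠ 1 := by
    by_contra hn; push Not at hn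
    have : Subsingleton (Subgroup.center Q) := ⟨fun a b => (hn a).trans (hn b).symm⟩
    have h2 := hE.2
    rw [Nat.card_eq_one_iff_unique.2 ⟨this, inferInstance⟩] at h2
    norm_num at h2
  have h0 : D.Φ c = 0 := by
    by_contra h
    obtain ⟨y, hy, hn⟩ := D.exists_move hc h
    exact hn (congrArg Subtype.val (Subgroup.mem_center_iff.1 hcc ⟨y, hy⟩)).symm
  rcases eq_zero' D hc h0 with rfl | rfl
  · exact absurd (Subtype.ext (Subtype.ext rfl)) hne
  · exact hc

theorem M_eq_comap : D.M = K0.comap D.ρ := by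
  rw [← D.map_M, Subgroup.comap_map_eq, D.ker, sup_eq_left.2 D.Q_le]

theorem rho_eq_one {h : Subgroup.centralizer ({z} : Set G)} : D.ρ h = 1 ↔ h ∈ Q := by
  rw [← MonoidHom.mem_ker, D.ker]

theorem rho_wEl_comm {m : Subgroup.centralizer ({z} : Set G)} (hm : m ∈ D.M) :
    Commute wEl (D.ρ m) :=
  wEl_commute (isUni_K0 (D.rho_mem m hm))

/-- The image of a subgroup of order three covering a normal subgroup. -/
theorem map_eq_zpowers [Q.Normal] (hQ : IsPGroup 2 Q)
    (Y : Subgroup (Subgroup.centralizer ({z} : Set G)))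
    (hY : Nat.card (Y.map D.ρ) = 3) (hn : (Y ⊔ Q).Normal) :
    Y.map D.ρ = Subgroup.zpowers wEl := by
  have hm : (Y ⊔ Q).map D.ρ = Y.map D.ρ := by
    rw [Subgroup.map_sup, (Subgroup.map_eq_bot_iff _).2 (le_of_eq D.ker.symm), sup_bot_eq]
  refine eq_zpowers_wEl _ hY ?_ ?_
  · rintro y ⟨a, -, rfl⟩; exact D.rho_add a
  · intro g hg y hy
    obtain ⟨h, -, rfl⟩ := D.exists_rho hg
    obtain ⟨a, ha, rfl⟩ := hy
    rw [← map_inv, ← _root_.map_mul, ← _root_.map_mul, ← hm]
    exact Subgroup.mem_map_of_mem _ (hn.conj_mem a (Subgroup.mem_sup_left ha) h)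

variable {X : Subgroup (Subgroup.centralizer ({z} : Set G))}

theorem disjoint_X (hQ : IsPGroup 2 Q) (hX : Nat.card X = 3)
    {a : Subgroup.centralizer ({z} : Set G)} (ha : a ∈ X) (haQ : a ∈ Q) : a = 1 := by
  have : Finite X := Nat.finite_of_card_ne_zero (by rw [hX]; norm_num)
  obtain ⟨k, hk⟩ := hQ ⟨a, haQ⟩
  have hk' : a ^ 2 ^ k = 1 := congrArg Subtype.val hk
  have h3 : orderOf a ∣ 3 := hX ▸ Subgroup.orderOf_dvd_natCard X ha
  have h2 : orderOf a ∣ 2 ^ k := orderOf_dvd_of_pow_eq_one hk'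
  have := Nat.dvd_gcd h3 h2
  rw [show Nat.gcd 3 (2 ^ k) = 1 from Nat.Coprime.pow_right k (by norm_num)] at this
  exact orderOf_eq_one_iff.1 (Nat.dvd_one.1 this)

theorem map_X [Q.Normal] (hQ : IsPGroup 2 Q) (hX : Nat.card X = 3) (hXQ : (X ⊔ Q).Normal) :
    X.map D.ρ = Subgroup.zpowers wEl := by
  refine map_eq_zpowers D hQ X ?_ hXQ
  have hinj : Function.Injective (D.ρ.comp X.subtype) := by
    rw [injective_iff_map_eq_one]
    intro a ha
    exact Subtype.ext (disjoint_X hQ hX a.2 ((rho_eq_one D).1 ha))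
  have : Nat.card (D.ρ.comp X.subtype).range = Nat.card X :=
    (Nat.card_congr (MonoidHom.ofInjective hinj).toEquiv).symm
  rwa [MonoidHom.range_comp, Subgroup.range_subtype, hX] at this

/-- A generator with scalar image. -/
theorem exists_gen [Q.Normal] (hQ : IsPGroup 2 Q) (hX : Nat.card X = 3) (hXQ : (X ⊔ Q).Normal) :
    ∃ x ∈ X, D.ρ x = wEl ∧ x ^ 3 = 1 ∧ X = Subgroup.zpowers x := by
  have : Finite X := Nat.finite_of_card_ne_zero (by rw [hX]; norm_num)
  obtain ⟨x, hx, hρ⟩ : wEl ∈ X.map D.ρ := by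
    rw [map_X D hQ hX hXQ]; exact Subgroup.mem_zpowers _
  have h3 : x ^ 3 = 1 := by
    rw [← hX]
    exact congrArg Subtype.val (pow_card_eq_one' (x := (⟨x, hx⟩ : X)))
  refine ⟨x, hx, hρ, h3, (Subgroup.eq_of_le_of_card_ge (Subgroup.zpowers_le.2 hx) ?_).symm⟩
  have hne : x ≠ 1 := fun e => wEl_ne_one (by rw [← hρ, e, map_one])
  rw [hX, Nat.card_zpowers, orderOf_eq_prime h3 hne]

variable {x : Subgroup.centralizer ({z} : Set G)}

theorem Phi_conj [Q.Normal] (hρ : D.ρ x = wEl) {q : Subgroup.centralizer ({z} : Set G)} (hq : q ∈ Q) :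
    D.Φ (x * q * x⁻¹) = wW (D.Φ q) := by
  rw [← D.conj x q hq, hρ, wEl_eq]

theorem Q_comm [Q.Normal] (hρ : D.ρ x = wEl) {q : Subgroup.centralizer ({z} : Set G)} (hq : q ∈ Q)
    (hc : x * q = q * x) : q = 1 ∨ q = zH z := by
  refine eq_zero' D hq (wW_eq_self ?_)
  rw [← Phi_conj D hρ hq, hc, mul_inv_cancel_right]

/-- Every element of the index two subgroup is congruent to one centralising `x`. -/
theorem exists_cent [hQn : Q.Normal] (hE : Cfsg.IsExtraspecial 2 Q) (hρ : D.ρ x = wEl) (h3 : x ^ 3 = 1)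
    (hz2 : orderOf z = 2) {m : Subgroup.centralizer ({z} : Set G)} (hm : m ∈ D.M) :
    ∃ q ∈ Q, x * (q * m) = q * m * x := by
  have hq0 : m * x * m⁻¹ * x⁻¹ ∈ Q := by
    rw [← rho_eq_one D, _root_.map_mul, _root_.map_mul, _root_.map_mul, map_inv, map_inv, hρ,
      ← (rho_wEl_comm D hm).eq, mul_inv_cancel_right, mul_inv_cancel]
  set q0 := m * x * m⁻¹ * x⁻¹ with hq0d
  obtain ⟨r, hr, hrΦ⟩ := D.surj (wW (D.Φ q0))
  have hr1 : x * r⁻¹ * x⁻¹ ∈ Q := hQn.conj_mem _ (inv_mem hr) x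
  have hinv : ∀ q ∈ Q, D.Φ q⁻¹ = D.Φ q := by
    intro q hq
    have h1 : D.Φ 1 = 0 := (D.eq_zero 1 (one_mem _)).2 (Or.inl rfl)
    have := D.map_mul q hq q⁻¹ (inv_mem hq)
    rw [mul_inv_cancel, h1] at this
    have h2 : D.Φ q + D.Φ q = 0 := funext fun i => by
      show D.Φ q i + D.Φ q i = 0
      generalize D.Φ q i = a
      revert a; decide
    exact add_left_cancel (this.symm.trans h2.symm)
  have hΦ : D.Φ (r * (x * r⁻¹ * x⁻¹)) = D.Φ q0 := by
    rw [D.map_mul r hr _ hr1, Phi_conj D hρ (inv_mem hr), hinv r hr, hrΦ, one_add_wW]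
  have key : r * x * r⁻¹ = q0 * x ∨ r * x * r⁻¹ = q0 * zH z * x := by
    rcases D.eq_or_mul (mul_mem hr hr1) hq0 hΦ with h | h
    · left
      rw [show r * x * r⁻¹ = r * (x * r⁻¹ * x⁻¹) * x by group, Subtype.ext h]
    · right
      rw [show r * x * r⁻¹ = r * (x * r⁻¹ * x⁻¹) * x by group,
        show r * (x * r⁻¹ * x⁻¹) = q0 * zH z from Subtype.ext h]
  have hx' : q0 * x = m * x * m⁻¹ := by rw [hq0d, inv_mul_cancel_right]
  rcases key with h | h
  · refine ⟨r⁻¹, inv_mem hr, ?_⟩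
    rw [hx'] at h
    calc x * (r⁻¹ * m) = r⁻¹ * (r * x * r⁻¹) * m := by group
      _ = r⁻¹ * (m * x * m⁻¹) * m := by rw [h]
      _ = r⁻¹ * m * x := by group
  · exfalso
    rw [mul_assoc q0, zH_comm x, ← mul_assoc, hx'] at h
    have hc : Commute (m * x * m⁻¹) (zH z) := (zH_comm _).symm
    have e : (r * x * r⁻¹) ^ 3 = (m * x * m⁻¹) ^ 3 * zH z ^ 3 := by rw [h, hc.mul_pow]
    rw [conj_pow, conj_pow, h3] at e
    simp only [mul_one, mul_inv_cancel, one_mul] at e
    have e' : z ^ 3 = 1 := (congrArg Subtype.val e).symm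
    have := orderOf_dvd_of_pow_eq_one e'
    rw [hz2] at this
    norm_num at this

theorem map_cent [Q.Normal] (hE : Cfsg.IsExtraspecial 2 Q) (hρ : D.ρ x = wEl) (h3 : x ^ 3 = 1)
    (hz2 : orderOf z = 2) {g : Equiv.Perm W} (hg : g ∈ K0) :
    ∃ c, x * c = c * x ∧ D.ρ c = g := by
  obtain ⟨m, hm, rfl⟩ := D.exists_rho hg
  obtain ⟨q, hq, hc⟩ := exists_cent D hE hρ h3 hz2 hm
  exact ⟨q * m, hc, by rw [_root_.map_mul, (rho_eq_one D).2 hq, one_mul]⟩

end H88.Fi24Cent
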