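import Cfsg.Agent.H88.Fi24Cent.Cert

/-!
Further certificates about the candidates: no four-dimensional subspace with a single label and
transitivity on the transvections.
-/

set_option autoImplicit false
set_option maxRecDepth 100000
set_option synthInstance.maxHeartbeats 200000
set_option synthInstance.maxSize 4096

namespace H88.Fi24Cent.Cert

open H16.Fi24

/-- Membership in some candidate. -/
def inU (v : W) : Bool := inR 0 v || inR 1 v || inR 2 v

theorem inU_iff (v : W) : inU v = true ↔ ∃ k, inR k v = true := by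
  have : ∀ k : ZMod 3, k = 0 ∨ k = 1 ∨ k = 2 := by decide
  constructor
  · intro h; simp only [inU, Bool.or_eq_true] at h
    rcases h with (h | h) | h <;> exact ⟨_, h⟩
  · rintro ⟨k, h⟩
    rcases this k with rfl | rfl | rfl <;> simp [inU, h]

theorem mix_ok : ∀ j m f, m ≠ 0 → ∀ k m' f', m' ≠ 0 →
    inU (sm (pw j) (el m f) + sm (pw k) (el m' f')) = true →
    inU (lin cA (sm (pw j) (el m f)) + sm (pw k) (el m' f')) = true →
    inU (lin cB (sm (pw j) (el m f)) + sm (pw k) (el m' f')) = true → j = k := by decide +kernel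

theorem line_in : ∀ k (c : F4), inR k (sm c v0) = true := by decide +kernel

theorem flat_ok : ∀ m f, el m f ≠ 0 → ∀ m₂ f₂, lab (el m₂ f₂) = lab (el m f) →
    lab (el m f + el m₂ f₂) = lab (el m f) → ∀ m₃ f₃, lab (el m₃ f₃) = lab (el m f) →
    lab (el m f + el m₃ f₃) = lab (el m f) → lab (el m₂ f₂ + el m₃ f₃) = lab (el m f) →
    lab (el m f + el m₂ f₂ + el m₃ f₃) = lab (el m f) → ∀ m₄ f₄, lab (el m₄ f₄) = lab (el m f) →
    lab (el m f + el m₄ f₄) = lab (el m f) → lab (el m₂ f₂ + el m₄ f₄) = lab (el m f) →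
    lab (el m₃ f₃ + el m₄ f₄) = lab (el m f) →
    lab (el m f + el m₂ f₂ + el m₄ f₄) = lab (el m f) →
    lab (el m f + el m₃ f₃ + el m₄ f₄) = lab (el m f) →
    lab (el m₂ f₂ + el m₃ f₃ + el m₄ f₄) = lab (el m f) →
    lab (el m f + el m₂ f₂ + el m₃ f₃ + el m₄ f₄) ≠ lab (el m f) := by decide +kernel

theorem lab_sm : ∀ k, ∀ v : W, lab (sm (pw k) v) = lab v := fun k =>
  forall_W (by revert k; decide +kernel)

theorem basis_ok : ∀ j, ∃ c m f m' f', bv j = sm c (bv 0) + el m f + wW (el m' f') := by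
  decide +kernel

theorem perp_ok : ∀ y : W, (∀ i, Bf y (us i) = 0 ∧ Bf y (wW (us i)) = 0) → Bf y v0 = 0 →
    Bf y (wW v0) = 0 → ∃ c, y = sm c v0 := forall_W (by decide +kernel)

theorem witness_ok : ∀ c : F4, c ≠ 0 → ∃ a m f,
    lab (sm a (bv 0) + el m f) ≠ lab (sm a (bv 0 + sm c v0) + el m f) := by decide +kernel

/-- Coordinates of the images under the first word. -/
def coA : Fin 4 → Fin 4 → ZMod 2 := ![![0, 1, 0, 1], ![1, 0, 0, 0], ![1, 0, 1, 1], ![1, 0, 1, 0]]

/-- Coordinates of the images under the second word. -/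
def coB : Fin 4 → Fin 4 → ZMod 2 := ![![0, 1, 1, 0], ![1, 0, 1, 0], ![1, 1, 0, 1], ![1, 1, 1, 1]]

theorem coA_ok : ∀ i, ∃ f, lin cA (us i) = el (coA i) f := by decide +kernel

theorem coB_ok : ∀ i, ∃ f, lin cB (us i) = el (coB i) f := by decide +kernel

/-- The action on functionals. -/
def stp (co : Fin 4 → Fin 4 → ZMod 2) (s : Fin 4 → ZMod 2) : Fin 4 → ZMod 2 := fun i =>
  co i 0 * s 0 + co i 1 * s 1 + co i 2 * s 2 + co i 3 * s 3

/-- Whether the base functional is reached. -/
def good : ℕ → (Fin 4 → ZMod 2) → Bool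
  | 0, s => decide (s = ![1, 0, 0, 0])
  | n + 1, s => decide (s = ![1, 0, 0, 0]) || good n (stp coA s) || good n (stp coB s)

theorem good_ok : ∀ s, s ≠ 0 → good 8 s = true := by decide +kernel

end H88.Fi24Cent.Cert
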