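import Cfsg.Agent.H88.Fi24Cent.Basic

/-!
A conjugate of the central involution lying in the extraspecial group: facts that are needed from
the configuration, and the elements outside the index two subgroup are semilinear.
-/

set_option autoImplicit false
set_option maxHeartbeats 400000

namespace H88.Fi24Cent

open H16.Fi24

universe u

variable {G : Type u} [Group G] {z : G} {Q : Subgroup (Subgroup.centralizer ({z} : Set G))}

/-- The extraspecial group inside the whole group. -/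
abbrev QG (Q : Subgroup (Subgroup.centralizer ({z} : Set G))) : Subgroup G :=
  Q.map (Subgroup.centralizer ({z} : Set G)).subtype

/-- Membership in a conjugate of the extraspecial group. -/
def InConj (Q : Subgroup (Subgroup.centralizer ({z} : Set G))) (g y : G) : Prop :=
  g⁻¹ * y * g ∈ QG Q

/-- The part of a conjugate of the extraspecial group inside the centraliser. -/
def conjQ (Q : Subgroup (Subgroup.centralizer ({z} : Set G))) (g : G) :
    Subgroup (Subgroup.centralizer ({z} : Set G)) where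
  carrier := {e | InConj Q g e}
  one_mem' := by
    show g⁻¹ * 1 * g ∈ QG Q
    rw [mul_one, inv_mul_cancel]; exact one_mem _
  mul_mem' {a b} ha hb := by
    have := mul_mem (show g⁻¹ * (a : G) * g ∈ QG Q from ha) (show g⁻¹ * (b : G) * g ∈ QG Q from hb)
    show g⁻¹ * ((a : G) * b) * g ∈ QG Q
    rwa [show g⁻¹ * ((a : G) * b) * g = g⁻¹ * (a : G) * g * (g⁻¹ * (b : G) * g) by group]
  inv_mem' {a} ha := by
    have := inv_mem (show g⁻¹ * (a : G) * g ∈ QG Q from ha)
    show g⁻¹ * (a : G)⁻¹ * g ∈ QG Q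
    rwa [show g⁻¹ * (a : G)⁻¹ * g = (g⁻¹ * (a : G) * g)⁻¹ by group]

theorem mem_conjQ {g : G} {e : Subgroup.centralizer ({z} : Set G)} :
    e ∈ conjQ Q g ↔ InConj Q g e := Iff.rfl

theorem mem_QG {y : G} : y ∈ QG Q ↔ ∃ q ∈ Q, (q : G) = y := Subgroup.mem_map

theorem coe_mem_QG {q : Subgroup.centralizer ({z} : Set G)} (hq : q ∈ Q) : (q : G) ∈ QG Q :=
  mem_QG.2 ⟨q, hq, rfl⟩

theorem mem_Q_of_QG {q : Subgroup.centralizer ({z} : Set G)} (h : (q : G) ∈ QG Q) : q ∈ Q := by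
  obtain ⟨r, hr, e⟩ := mem_QG.1 h
  rwa [← Subtype.ext e]

theorem conj_QG [hn : Q.Normal] {h y : G} (hh : h ∈ Subgroup.centralizer ({z} : Set G))
    (hy : y ∈ QG Q) : h * y * h⁻¹ ∈ QG Q := by
  obtain ⟨q, hq, rfl⟩ := mem_QG.1 hy
  exact mem_QG.2 ⟨⟨h, hh⟩ * q * ⟨h, hh⟩⁻¹, hn.conj_mem q hq _, rfl⟩

/-- The conjugate of the extraspecial group depends only on the conjugate involution. -/
theorem inConj_congr [Q.Normal] {g g' : G} (e : g * z * g⁻¹ = g' * z * g'⁻¹) {y : G}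
    (hy : InConj Q g y) : InConj Q g' y := by
  have hh : g'⁻¹ * g ∈ Subgroup.centralizer ({z} : Set G) := by
    rw [Subgroup.mem_centralizer_singleton_iff]
    calc g'⁻¹ * g * z = g'⁻¹ * (g * z * g⁻¹) * g := by group
      _ = g'⁻¹ * (g' * z * g'⁻¹) * g := by rw [e]
      _ = z * (g'⁻¹ * g) := by group
  have := conj_QG (Q := Q) hh hy
  show g'⁻¹ * y * g' ∈ QG Q
  rwa [show g'⁻¹ * g * (g⁻¹ * y * g) * (g'⁻¹ * g)⁻¹ = g'⁻¹ * y * g' by group] at this

theorem inConj_left [Q.Normal] {h g y : G} (hy : InConj Q g y) :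
    InConj Q (h * g) (h * y * h⁻¹) := by
  show (h * g)⁻¹ * (h * y * h⁻¹) * (h * g) ∈ QG Q
  rwa [show (h * g)⁻¹ * (h * y * h⁻¹) * (h * g) = g⁻¹ * y * g by group]

variable (D : Model z Q)

theorem Phi_one : D.Φ 1 = 0 := (D.eq_zero 1 (one_mem _)).2 (Or.inl rfl)

theorem Phi_inv {q : Subgroup.centralizer ({z} : Set G)} (hq : q ∈ Q) : D.Φ q⁻¹ = D.Φ q := by
  have := D.map_mul q hq q⁻¹ (inv_mem hq)
  rw [mul_inv_cancel, Phi_one D] at this
  have h2 : D.Φ q + D.Φ q = 0 := funext fun i => by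
    show D.Φ q i + D.Φ q i = 0
    generalize D.Φ q i = a
    revert a; decide
  exact add_left_cancel (this.symm.trans h2.symm)

theorem add_self_W (v : W) : v + v = 0 := funext fun i => by
  show v i + v i = 0
  generalize v i = a
  revert a; decide

include D in
theorem commutator_Q {a b : Subgroup.centralizer ({z} : Set G)} (ha : a ∈ Q) (hb : b ∈ Q) :
    a * b * a⁻¹ = b ∨ a * b * a⁻¹ = b * zH z := by
  have hc : a * b * a⁻¹ ∈ Q := mul_mem (mul_mem ha hb) (inv_mem ha)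
  have e : D.Φ (a * b * a⁻¹) = D.Φ b := by
    rw [D.map_mul _ (mul_mem ha hb) _ (inv_mem ha), D.map_mul a ha b hb, Phi_inv D ha,
      add_right_comm, add_self_W, zero_add]
  rcases D.eq_or_mul hc hb e with h | h
  · exact Or.inl (Subtype.ext h)
  · exact Or.inr (Subtype.ext h)

include D in
theorem commutator_QG {g a b : G} (ha : InConj Q g a) (hb : InConj Q g b) :
    a * b * a⁻¹ = b ∨ a * b * a⁻¹ = b * (g * z * g⁻¹) := by
  obtain ⟨p, hp, ep⟩ := mem_QG.1 ha
  obtain ⟨q, hq, eq⟩ := mem_QG.1 hb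
  have ea : a = g * (p : G) * g⁻¹ := by rw [ep]; group
  have eb : b = g * (q : G) * g⁻¹ := by rw [eq]; group
  rcases commutator_Q D hp hq with h | h
  · left
    have h' : (p : G) * q * (p : G)⁻¹ = q := congrArg Subtype.val h
    rw [ea, eb]
    calc g * (p : G) * g⁻¹ * (g * q * g⁻¹) * (g * (p : G) * g⁻¹)⁻¹
        = g * ((p : G) * q * (p : G)⁻¹) * g⁻¹ := by group
      _ = _ := by rw [h']
  · right
    have h' : (p : G) * q * (p : G)⁻¹ = q * z := congrArg Subtype.val h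
    rw [ea, eb]
    calc g * (p : G) * g⁻¹ * (g * q * g⁻¹) * (g * (p : G) * g⁻¹)⁻¹
        = g * ((p : G) * q * (p : G)⁻¹) * g⁻¹ := by group
      _ = _ := by rw [h']; group

/-- A conjugate of the central involution in the extraspecial group. -/
structure Pair (Q : Subgroup (Subgroup.centralizer ({z} : Set G))) (g : G)
    (s : Subgroup.centralizer ({z} : Set G)) : Prop where
  eq : (s : G) = g * z * g⁻¹
  mem : s ∈ Q
  ne : (s : G) ≠ z

theorem Pair.ne_one {g : G} {s : Subgroup.centralizer ({z} : Set G)} (P : Pair Q g s)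
    (hz : z ≠ 1) : s ≠ 1 := fun e => hz (by
  have := P.eq
  rw [e] at this
  exact conj_eq_one_iff.1 this.symm)

theorem Pair.Phi_ne {g : G} {s : Subgroup.centralizer ({z} : Set G)} (P : Pair Q g s)
    (hz : z ≠ 1) : D.Φ s ≠ 0 := fun e => by
  rcases (D.eq_zero s P.mem).1 e with h | h
  · exact P.ne_one hz (Subtype.ext h)
  · exact P.ne h

theorem Pair.conj [hn : Q.Normal] {g : G} {s : Subgroup.centralizer ({z} : Set G)} (P : Pair Q g s)
    (h : Subgroup.centralizer ({z} : Set G)) : Pair Q ((h : G) * g) (h * s * h⁻¹) where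
  eq := by
    show (h : G) * s * (h : G)⁻¹ = _
    rw [P.eq]; group
  mem := hn.conj_mem s P.mem h
  ne := fun e => P.ne (by
    have e' : (h : G) * s * (h : G)⁻¹ = z := e
    calc (s : G) = (h : G)⁻¹ * ((h : G) * s * (h : G)⁻¹) * h := by group
      _ = (h : G)⁻¹ * z * h := by rw [e']
      _ = (h : G)⁻¹ * (z * h) := by group
      _ = z := by rw [← Subgroup.mem_centralizer_singleton_iff.1 h.2, inv_mul_cancel_left])

/-- What is used from the configuration. -/
structure Facts (D : Model z Q) : Prop where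
  zmem : ∀ g s, Pair Q g s → InConj Q g z
  card : ∀ g s, Pair Q g s → Nat.card ↥(Q ⊓ conjQ Q g) = 128
  wmem : ∀ g s, Pair Q g s → ∀ q ∈ Q, D.Φ q = wW (D.Φ s) → q ∈ conjQ Q g
  flat : ∀ g s, Pair Q g s → ∀ U : Subgroup (Subgroup.centralizer ({z} : Set G)),
    U ≤ Q ⊓ conjQ Q g → 16 ≤ Nat.card U → zH z ∉ U →
    ∃ u ∈ U, ∃ w ∈ U, u ≠ 1 ∧ w ≠ 1 ∧ ¬ (IsConj z (u : G) ↔ IsConj z (w : G))
  fuse : ∀ g s, Pair Q g s → ∀ a ∈ conjQ Q g ⊓ D.M, ∀ b ∈ conjQ Q g ⊓ D.M,
    D.ρ a ≠ 1 → D.ρ b ≠ 1 → ∃ k ∈ K0, k * D.ρ a * k⁻¹ = D.ρ b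

variable {D}

theorem Facts.zH_mem_conjQ (F : Facts D) {g : G} {s : Subgroup.centralizer ({z} : Set G)}
    (P : Pair Q g s) : zH z ∈ conjQ Q g := F.zmem g s P

theorem Pair.mem_conjQ (hzQ : zH z ∈ Q) {g : G} {s : Subgroup.centralizer ({z} : Set G)}
    (P : Pair Q g s) : s ∈ conjQ Q g := by
  show g⁻¹ * (s : G) * g ∈ QG Q
  rw [P.eq, show g⁻¹ * (g * z * g⁻¹) * g = z by group]
  exact coe_mem_QG hzQ

variable (D)

theorem nz_biadd : ∀ a b c : F4,
    (nz (a + b + c) : ZMod 2) + nz (a + b) + nz c =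
      ((nz (a + c) : ZMod 2) + nz a + nz c) + ((nz (b + c) : ZMod 2) + nz b + nz c) := by decide

theorem Bf_comm (u v : W) : Bf u v = Bf v u := by
  simp only [Bf, add_comm u v]
  ring

theorem Bf_add (u v w : W) : Bf (u + v) w = Bf u w + Bf v w := by
  have hq : ∀ x : W, qf x = ∑ j, (nz (x j) : ZMod 2) := fun x => by
    simp only [qf, cnt, Fin.sum_univ_six, Nat.cast_add]
  simp only [Bf, hq, ← Finset.sum_add_distrib, Pi.add_apply]
  exact Finset.sum_congr rfl fun j _ => nz_biadd _ _ _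

theorem Bf_one_of_ne {u v : W} (h : Bf u v ≠ 0) : Bf u v = 1 := by
  revert h
  generalize Bf u v = b
  revert b; decide

/-- An element of the extraspecial group commuting with the centraliser of a non-central element. -/
theorem double_centraliser {a t : Subgroup.centralizer ({z} : Set G)} (ha : a ∈ Q) (ht : t ∈ Q)
    (h : ∀ y ∈ Q, t * y = y * t → a * y = y * a) :
    D.Φ a = 0 ∨ D.Φ a = D.Φ t := by
  by_contra hne
  push Not at hne
  have hB : ∀ y ∈ Q, Bf (D.Φ t) (D.Φ y) = 0 → Bf (D.Φ a) (D.Φ y) = 0 := fun y hy e =>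
    (D.comm a ha y hy).1 (h y hy ((D.comm t ht y hy).2 e))
  obtain ⟨y, hy, hay⟩ := D.exists_move ha hne.1
  have hay1 : Bf (D.Φ a) (D.Φ y) = 1 := Bf_one_of_ne (mt (D.comm a ha y hy).2 hay)
  have hty : Bf (D.Φ t) (D.Φ y) = 1 := Bf_one_of_ne fun e => by
    rw [hB y hy e] at hay1; exact absurd hay1 (by decide)
  have hat0 : D.Φ (a * t) ≠ 0 := by
    rw [D.map_mul a ha t ht]
    intro e
    exact hne.2 (add_right_cancel (e.trans (add_self_W (D.Φ t)).symm))
  obtain ⟨w, hw, hwm⟩ := D.exists_move (mul_mem ha ht) hat0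
  have hatw : Bf (D.Φ a) (D.Φ w) + Bf (D.Φ t) (D.Φ w) = 1 := by
    rw [← Bf_add, ← D.map_mul a ha t ht]
    exact Bf_one_of_ne (mt (D.comm _ (mul_mem ha ht) w hw).2 hwm)
  have htw : Bf (D.Φ t) (D.Φ w) = 1 := Bf_one_of_ne fun e => by
    rw [hB w hw e, e] at hatw; exact absurd hatw (by decide)
  have hc : Bf (D.Φ a) (D.Φ (w * y)) = 0 := by
    refine hB _ (mul_mem hw hy) ?_
    rw [D.map_mul w hw y hy, Bf_comm, Bf_add, Bf_comm, htw, Bf_comm, hty]; decide
  rw [D.map_mul w hw y hy, Bf_comm, Bf_add, Bf_comm, Bf_comm (D.Φ y), hay1] at hc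
  rw [htw] at hatw
  revert hatw hc
  generalize Bf (D.Φ a) (D.Φ w) = b
  revert b; decide

end H88.Fi24Cent
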