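import Cfsg.Agent.H88.Fi24Cent.Conj

/-!
Linear elements lie in the index two subgroup; the intersection of a conjugate pair of maximal
elementary groups with its scalar multiple.
-/

set_option autoImplicit false
set_option maxHeartbeats 400000

namespace H88.Fi24Cent

open H16.Fi24

universe u

variable {G : Type u} [Group G] {z : G} {Q : Subgroup (Subgroup.centralizer ({z} : Set G))}
  {D : Model z Q}

theorem scal_cases : ∀ e d : F4, (e = 0 ∨ e = (1, 0)) → (d = 0 ∨ d = (1, 0)) →
    ∀ u v : F4, mu (0, 1) (mu (0, 1) (u + mu e v)) = mu (0, 1) u + mu d v →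
      u = mu (d + mu (mu (0, 1) (0, 1)) e) v := by decide

theorem w_ne : ∀ a : F4, (mu (0, 1) a = 0 ∨ mu (0, 1) a = a) → a = 0 := by decide

theorem lin_cases : ∀ u v : F4, mu (0, 1) (u + v) = mu (0, 1) u ∨ mu (0, 1) (u + v) = mu (0, 1) u + v →
    v = 0 := by decide

theorem z_ne_one (hz : orderOf z = 2) : z ≠ 1 := fun e => by
  rw [e, orderOf_one] at hz
  exact absurd hz (by norm_num)

theorem rho_move [hn : Q.Normal] {g : G} {s a e : Subgroup.centralizer ({z} : Set G)}
    (P : Pair Q g s) (ha : a ∈ Q) (hag : a ∈ conjQ Q g) (he : e ∈ conjQ Q g) :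
    (e * a * e⁻¹ = a ∨ e * a * e⁻¹ = a * s) ∧
      (D.ρ e (D.Φ a) = D.Φ a ∨ D.ρ e (D.Φ a) = D.Φ a + D.Φ s) := by
  have h := commutator_QG D (mem_conjQ.1 he) (mem_conjQ.1 hag)
  rw [← P.eq] at h
  have h' : e * a * e⁻¹ = a ∨ e * a * e⁻¹ = a * s := h.imp Subtype.ext Subtype.ext
  refine ⟨h', ?_⟩
  rw [D.conj e a ha]
  rcases h' with h' | h'
  · left; rw [h']
  · right; rw [h', D.map_mul a ha s P.mem]

/-- An element of the intersection fixed by the conjugate group lies over the distinguished vector. -/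
theorem fixed_cases [hn : Q.Normal] (F : Facts D) (hz : orderOf z = 2) {g : G}
    {s a : Subgroup.centralizer ({z} : Set G)} (P : Pair Q g s) (hzQ : zH z ∈ Q) (ha : a ∈ Q)
    (hag : a ∈ conjQ Q g) (hfix : ∀ e ∈ conjQ Q g, D.ρ e (D.Φ a) = D.Φ a) :
    D.Φ a = 0 ∨ D.Φ a = D.Φ s := by
  have hv := P.Phi_ne D (z_ne_one hz)
  obtain ⟨t, ht, hte⟩ := mem_QG.1 (F.zmem g s P)
  obtain ⟨a', ha', hae⟩ := mem_QG.1 (mem_conjQ.1 hag)
  have key : D.Φ a' = 0 ∨ D.Φ a' = D.Φ t := by
    refine double_centraliser D ha' ht fun y hy hcy => ?_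
    have hG : (t : G) * y = y * t := congrArg Subtype.val hcy
    have he : g * (y : G) * g⁻¹ ∈ Subgroup.centralizer ({z} : Set G) := by
      rw [Subgroup.mem_centralizer_singleton_iff]
      rw [hte] at hG
      calc g * (y : G) * g⁻¹ * z = g * ((y : G) * (g⁻¹ * z * g)) * g⁻¹ := by group
        _ = g * (g⁻¹ * z * g * y) * g⁻¹ := by rw [hG]
        _ = z * (g * (y : G) * g⁻¹) := by group
    have hem : (⟨_, he⟩ : Subgroup.centralizer ({z} : Set G)) ∈ conjQ Q g := by
      show g⁻¹ * (g * (y : G) * g⁻¹) * g ∈ QG Q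
      rw [show g⁻¹ * (g * (y : G) * g⁻¹) * g = y by group]
      exact coe_mem_QG hy
    set e : Subgroup.centralizer ({z} : Set G) := ⟨_, he⟩ with hed
    have hcomm : e * a * e⁻¹ = a := by
      rcases (rho_move (D := D) P ha hag hem).1 with h | h
      · exact h
      · exfalso
        have h2 := hfix e hem
        rw [D.conj e a ha, h, D.map_mul a ha s P.mem, add_eq_left] at h2
        exact hv h2
    have hc' : g * (y : G) * g⁻¹ * a * (g * (y : G) * g⁻¹)⁻¹ = a := congrArg Subtype.val hcomm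
    refine Subtype.ext ?_
    show (a' : G) * y = y * a'
    rw [hae]
    calc g⁻¹ * (a : G) * g * y = g⁻¹ * ((a : G) * (g * (y : G) * g⁻¹)) * g := by group
      _ = g⁻¹ * (g * (y : G) * g⁻¹ * a) * g := by rw [mul_inv_eq_iff_eq_mul.1 hc']
      _ = y * (g⁻¹ * (a : G) * g) := by group
  have back : ∀ p : G, g⁻¹ * (a : G) * g = p → (a : G) = g * p * g⁻¹ := fun p hp => by
    rw [← hp]; group
  rcases key with k | k
  · rcases eq_zero' D ha' k with h | h
    · left
      have hb := back 1 (by rw [← hae, h]; rfl)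
      rw [mul_one, mul_inv_cancel] at hb
      rw [show a = 1 from Subtype.ext hb, Phi_one D]
    · right
      have hb := back z (by rw [← hae, h]; rfl)
      rw [show a = s from Subtype.ext (hb.trans P.eq.symm)]
  · rcases D.eq_or_mul ha' ht k with h | h
    · left
      have hb := back (g⁻¹ * z * g) (by rw [← hae, h, hte])
      rw [show g * (g⁻¹ * z * g) * g⁻¹ = z by group] at hb
      rw [show a = zH z from Subtype.ext hb]
      exact (D.eq_zero _ hzQ).2 (Or.inr rfl)
    · right
      have hb := back (g⁻¹ * z * g * z) (by rw [← hae, h, hte])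
      rw [show g * (g⁻¹ * z * g * z) * g⁻¹ = z * (g * z * g⁻¹) by group, ← P.eq] at hb
      rw [show a = zH z * s from Subtype.ext hb, D.map_mul _ hzQ s P.mem,
        (D.eq_zero _ hzQ).2 (Or.inr rfl), zero_add]

theorem wW_add (u v : W) : wW (u + v) = wW u + wW v := funext fun _ => mu_add _ _ _

/-- Every element commuting with the scalars lies in the index two subgroup. -/
theorem linear_mem [hn : Q.Normal] (F : Facts D) (hz : orderOf z = 2) (hzQ : zH z ∈ Q) {g : G}
    {s : Subgroup.centralizer ({z} : Set G)} (P : Pair Q g s)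
    (h : Subgroup.centralizer ({z} : Set G)) (hc : Commute (D.ρ h) wEl) : h ∈ D.M := by
  by_contra hh
  have hall : ∀ e, Commute (D.ρ e) wEl := by
    intro e
    by_cases he : e ∈ D.M
    · exact (rho_wEl_comm D he).symm
    · have hm : e * h⁻¹ ∈ D.M := by
        rw [Subgroup.mul_mem_iff_of_index_two D.index_M, inv_mem_iff]; tauto
      have := (rho_wEl_comm D hm).symm.mul_left hc
      rwa [← _root_.map_mul, inv_mul_cancel_right] at this
  obtain ⟨q, hq, hqΦ⟩ := D.surj (wW (D.Φ s))
  have hqg := F.wmem g s P q hq hqΦ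
  have hv := P.Phi_ne D (z_ne_one hz)
  have key := fixed_cases F hz P hzQ hq hqg fun e he => by
    have hs : D.ρ e (D.Φ s) = D.Φ s := by
      rcases (rho_move (D := D) P P.mem (P.mem_conjQ hzQ) he).2 with h' | h'
      · exact h'
      · exfalso
        rw [add_self_W] at h'
        exact hv ((D.ρ e).injective (h'.trans (D.rho_zero e).symm))
    rw [hqΦ, ← wEl_eq]
    have := congrArg (fun f : Equiv.Perm W => f (D.Φ s)) (hall e).eq
    simp only [Equiv.Perm.mul_apply, hs] at this
    exact this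
  rw [hqΦ] at key
  refine hv (funext fun i => w_ne _ ?_)
  rcases key with k | k
  · exact Or.inl (congrFun k i)
  · exact Or.inr (congrFun k i)

/-- The intersection and its scalar multiple meet above one line. -/
theorem inter_line [hn : Q.Normal] (F : Facts D) (hz : orderOf z = 2) (hzQ : zH z ∈ Q) {g : G}
    {s a b : Subgroup.centralizer ({z} : Set G)} (P : Pair Q g s) (ha : a ∈ Q)
    (hag : a ∈ conjQ Q g) (hb : b ∈ Q) (hbg : b ∈ conjQ Q g) (hab : D.Φ b = wW (D.Φ a)) :
    ∃ c : F4, D.Φ a = sm c (D.Φ s) := by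
  by_contra hne
  push Not at hne
  have hv := P.Phi_ne D (z_ne_one hz)
  have hfix : ∀ e ∈ conjQ Q g, D.ρ e (D.Φ a) = D.Φ a := by
    intro e he
    obtain ⟨ea, hea⟩ : ∃ c : F4, (c = 0 ∨ c = (1, 0)) ∧ D.ρ e (D.Φ a) = D.Φ a + sm c (D.Φ s) := by
      rcases (rho_move (D := D) P ha hag he).2 with h | h
      · exact ⟨0, Or.inl rfl, by rw [h, sm_zero, add_zero]⟩
      · exact ⟨_, Or.inr rfl, by rw [h, sm_one]⟩
    obtain ⟨eb, heb⟩ : ∃ c : F4, (c = 0 ∨ c = (1, 0)) ∧ D.ρ e (D.Φ b) = D.Φ b + sm c (D.Φ s) := by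
      rcases (rho_move (D := D) P hb hbg he).2 with h | h
      · exact ⟨0, Or.inl rfl, by rw [h, sm_zero, add_zero]⟩
      · exact ⟨_, Or.inr rfl, by rw [h, sm_one]⟩
    rcases D.scal e with hs | hs
    · rcases hea.1 with h | h
      · rw [hea.2, h, sm_zero, add_zero]
      · exfalso
        have h1 := hs (D.Φ a)
        rw [← hab, heb.2, hea.2, h, sm_one, hab] at h1
        refine hv (funext fun i => lin_cases (D.Φ a i) _ ?_)
        have h2 := congrFun h1 i
        rcases heb.1 with h3 | h3 <;> rw [h3] at h2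
        · rw [sm_zero, add_zero] at h2; exact Or.inl h2.symm
        · rw [sm_one] at h2; exact Or.inr h2.symm
    · exfalso
      have h1 := hs (D.Φ a)
      rw [← hab, heb.2, hea.2, hab] at h1
      exact hne _ (funext fun i => scal_cases _ _ hea.1 heb.1 _ _ (congrFun h1 i).symm)
  rcases fixed_cases F hz P hzQ ha hag hfix with h | h
  · exact hne 0 (by rw [h, sm_zero])
  · exact hne (1, 0) (by rw [h, sm_one])

end H88.Fi24Cent
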