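import Cfsg.Agent.H88.Fi24Cent.Rid
import Cfsg.Agent.H88.Fi24Cent.Outer
import Cfsg.Agent.H16.Fi24.Class

/-!
The facts used for the centraliser of the subgroup of order three, given the order of the
intersections.
-/

set_option autoImplicit false
set_option maxHeartbeats 400000

namespace H88.Fi24Cent

open H16.Fi24 Cert

universe u

variable {G : Type u} [Group G] [Finite G] {z : G}
  {Q : Subgroup (Subgroup.centralizer ({z} : Set G))} [hn : Q.Normal] {D : Model z Q}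

theorem inConj_iff_mem_map {g y : G} :
    InConj Q g y ↔ y ∈ (QG Q).map (MulAut.conj g).toMonoidHom := by
  rw [Subgroup.mem_map_equiv, MulAut.conj_symm_apply]
  exact Iff.rfl

theorem zmem_of_type (hF : Cfsg.IsOfLargeFischerTypeAt z Q) {g : G}
    {s : Subgroup.centralizer ({z} : Set G)} (P : Pair Q g s) : InConj Q g z :=
  inConj_iff_mem_map.2 (fused hF P.mem P.eq.symm P.ne).z_mem

theorem card_inter (g : G) :
    Nat.card ↥(QG Q ⊓ (QG Q).map (MulAut.conj g).toMonoidHom) = Nat.card ↥(Q ⊓ conjQ Q g) := by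
  have e : (Q ⊓ conjQ Q g).map (Subgroup.centralizer ({z} : Set G)).subtype =
      QG Q ⊓ (QG Q).map (MulAut.conj g).toMonoidHom := by
    ext y
    constructor
    · rintro ⟨a, ⟨ha, hag⟩, rfl⟩
      exact ⟨coe_mem_QG ha, inConj_iff_mem_map.1 hag⟩
    · rintro ⟨hy, hyg⟩
      obtain ⟨q, hq, rfl⟩ := mem_QG.1 hy
      exact ⟨q, ⟨hq, inConj_iff_mem_map.2 hyg⟩, rfl⟩
  rw [← e, Subgroup.card_map_of_injective (Subgroup.subtype_injective _)]

/-- An element moving a conjugate to the base vector. -/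
theorem exists_to_base (hF : Cfsg.IsOfLargeFischerTypeAt z Q) (D : Model z Q) {g : G}
    {s : Subgroup.centralizer ({z} : Set G)} (P : Pair Q g s) :
    ∃ m ∈ D.M, D.ρ m (D.Φ s) = v0 := by
  have h3 := lab_of_conj_eq hF D P.mem P.eq.symm P.ne
  obtain ⟨k, hk, e⟩ := exists_of_lab (v := D.Φ s) (u := v0) (by omega) (v0_lab.trans h3.symm)
  obtain ⟨m, hm, rfl⟩ := D.exists_rho hk
  exact ⟨m, hm, e⟩

theorem conj_conjQ {g : G} (m : Subgroup.centralizer ({z} : Set G))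
    {a : Subgroup.centralizer ({z} : Set G)} (ha : a ∈ conjQ Q g) :
    m * a * m⁻¹ ∈ conjQ Q ((m : G) * g) := inConj_left (h := (m : G)) (mem_conjQ.1 ha)

/-- Identification for a conjugate with base image. -/
theorem base_identify (hF : Cfsg.IsOfLargeFischerTypeAt z Q) (D : Model z Q)
    (hR : ∀ g s, Pair Q g s → Nat.card ↥(Q ⊓ conjQ Q g) = 128) {g : G}
    {s : Subgroup.centralizer ({z} : Set G)} (P : Pair Q g s) (hv : D.Φ s = v0) :
    ∃ k : ZMod 3, (∀ a ∈ Q ⊓ conjQ Q g, ∃ m f, D.Φ a = sm (pw k) (el m f)) ∧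
      ∀ q ∈ Q, ∀ m f, D.Φ q = sm (pw k) (el m f) → q ∈ conjQ Q g :=
  R_identify P (zH_mem D hF.1.2.2.1) (zmem_of_type hF P) hv (hR g s P)

theorem wmem_of_type (hF : Cfsg.IsOfLargeFischerTypeAt z Q) (D : Model z Q)
    (hR : ∀ g s, Pair Q g s → Nat.card ↥(Q ⊓ conjQ Q g) = 128) {g : G}
    {s : Subgroup.centralizer ({z} : Set G)} (P : Pair Q g s)
    {q : Subgroup.centralizer ({z} : Set G)} (hq : q ∈ Q) (e : D.Φ q = wW (D.Φ s)) :
    q ∈ conjQ Q g := by
  obtain ⟨m, hm, hmv⟩ := exists_to_base hF D P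
  have hv : D.Φ (m * s * m⁻¹) = v0 := by rw [← D.conj m s P.mem, hmv]
  obtain ⟨k, -, hback⟩ := base_identify hF D hR (P.conj m) hv
  obtain ⟨mm, f, he⟩ := el_of_inR k _ (line_in k (0, 1))
  have h := hback (m * q * m⁻¹) (hn.conj_mem q hq m) mm f (by
    rw [← he, ← D.conj m q hq, e, (isUni_K0 (D.rho_mem m hm)).wcomm, hmv]
    rfl)
  have h' := conj_conjQ (m⁻¹) h
  rw [show m⁻¹ * (m * q * m⁻¹) * m⁻¹⁻¹ = q by group] at h'
  rwa [show ((m⁻¹ : Subgroup.centralizer ({z} : Set G)) : G) * ((m : G) * g) = g by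
    rw [Subgroup.coe_inv, inv_mul_cancel_left]] at h'

theorem us_el : ∀ i, ∃ mm f, us i = el mm f := by decide +kernel

theorem fuse_of_type (hF : Cfsg.IsOfLargeFischerTypeAt z Q) (D : Model z Q)
    (hR : ∀ g s, Pair Q g s → Nat.card ↥(Q ⊓ conjQ Q g) = 128) {g : G}
    {s : Subgroup.centralizer ({z} : Set G)} (P : Pair Q g s)
    {a b : Subgroup.centralizer ({z} : Set G)} (ha : a ∈ conjQ Q g ⊓ D.M) (hb : b ∈ conjQ Q g ⊓ D.M)
    (ha1 : D.ρ a ≠ 1) (hb1 : D.ρ b ≠ 1) : ∃ k ∈ K0, k * D.ρ a * k⁻¹ = D.ρ b := by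
  have hzQ := zH_mem D hF.1.2.2.1
  obtain ⟨m, hm, hmv⟩ := exists_to_base hF D P
  set s' := m * s * m⁻¹ with hs'
  have P' : Pair Q ((m : G) * g) s' := P.conj m
  have hv : D.Φ s' = v0 := by rw [hs', ← D.conj m s P.mem, hmv]
  obtain ⟨k, -, hback⟩ := base_identify hF D hR P' hv
  have tr : ∀ c ∈ conjQ Q g ⊓ D.M, ∃ t, IsTr k (D.ρ m * D.ρ c * (D.ρ m)⁻¹) t := by
    intro c hc
    set e := m * c * m⁻¹ with he
    have heg : e ∈ conjQ Q ((m : G) * g) := conj_conjQ m hc.1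
    have hρ : D.ρ e = D.ρ m * D.ρ c * (D.ρ m)⁻¹ := by
      rw [he, _root_.map_mul, _root_.map_mul, map_inv]
    have hK : D.ρ e ∈ K0 := by
      rw [hρ]; exact mul_mem (mul_mem (D.rho_mem m hm) (D.rho_mem c hc.2)) (inv_mem (D.rho_mem m hm))
    have hfix : D.ρ e v0 = v0 := by
      rcases (rho_move (D := D) P' P'.mem (P'.mem_conjQ hzQ) heg).2 with h | h <;> rw [hv] at h
      · exact h
      · exfalso
        rw [add_self_W] at h
        exact absurd ((D.ρ e).injective (h.trans (D.rho_zero e).symm)) (by decide)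
    have hi : ∀ i, ∃ t : ZMod 2, D.ρ e (us i) = us i + sm (mu (pw (-k)) (t, 0)) v0 := by
      intro i
      obtain ⟨q, hq, hqΦ⟩ := D.surj (sm (pw k) (us i))
      obtain ⟨mm, f, hel⟩ := us_el i
      have hqg := hback q hq mm f (by rw [hqΦ, hel])
      have hu := isUni_K0 hK
      have key : ∀ x : W, D.ρ e (sm (pw k) (us i)) = x → D.ρ e (us i) = sm (pw (-k)) x := fun x hx => by
        rw [← hx, hu.sm_comm, sm_sm, ← pw_add, neg_add_cancel, pw_zero, sm_one]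
      rcases (rho_move (D := D) P' hq hqg heg).2 with h | h <;> rw [hqΦ] at h
      · refine ⟨0, ?_⟩
        rw [key _ h, sm_sm, ← pw_add, neg_add_cancel, pw_zero, sm_one, Prod.mk_zero_zero, mu_zero,
          sm_zero, add_zero]
      · refine ⟨1, ?_⟩
        rw [hv] at h
        rw [key _ h, sm_add', sm_sm, ← pw_add, neg_add_cancel, pw_zero, sm_one, mu_comm, mu_one]
    choose t ht using hi
    exact ⟨t, hρ ▸ ⟨hK, hfix, ht⟩⟩
  obtain ⟨ta, hta⟩ := tr a ha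
  obtain ⟨tb, htb⟩ := tr b hb
  obtain ⟨c, hc, e⟩ := hta.conjugate htb (fun h => ha1 (conj_eq_one_iff.1 h))
    (fun h => hb1 (conj_eq_one_iff.1 h))
  refine ⟨(D.ρ m)⁻¹ * c * D.ρ m, mul_mem (mul_mem (inv_mem (D.rho_mem m hm)) hc) (D.rho_mem m hm), ?_⟩
  calc (D.ρ m)⁻¹ * c * D.ρ m * D.ρ a * ((D.ρ m)⁻¹ * c * D.ρ m)⁻¹
      = (D.ρ m)⁻¹ * (c * (D.ρ m * D.ρ a * (D.ρ m)⁻¹) * c⁻¹) * D.ρ m := by group
    _ = (D.ρ m)⁻¹ * (D.ρ m * D.ρ b * (D.ρ m)⁻¹) * D.ρ m := by rw [e]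
    _ = D.ρ b := by group

theorem flat_of_type (hF : Cfsg.IsOfLargeFischerTypeAt z Q) (D : Model z Q)
    (hR : ∀ g s, Pair Q g s → Nat.card ↥(Q ⊓ conjQ Q g) = 128) {g : G}
    {s : Subgroup.centralizer ({z} : Set G)} (P : Pair Q g s)
    (U : Subgroup (Subgroup.centralizer ({z} : Set G))) (hUR : U ≤ Q ⊓ conjQ Q g)
    (hcard : 16 ≤ Nat.card U) (hzU : zH z ∉ U) :
    ∃ u ∈ U, ∃ w ∈ U, u ≠ 1 ∧ w ≠ 1 ∧ ¬ (IsConj z (u : G) ↔ IsConj z (w : G)) := by
  classical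
  have hzQ := zH_mem D hF.1.2.2.1
  obtain ⟨m, hm, hmv⟩ := exists_to_base hF D P
  obtain ⟨k, hfwd, -⟩ := base_identify hF D hR (P.conj m)
    (show D.Φ (m * s * m⁻¹) = v0 by rw [← D.conj m s P.mem, hmv])
  have hcoord : ∀ u ∈ U, ∃ p : (Fin 4 → ZMod 2) × F4, D.ρ m (D.Φ u) = sm (pw k) (el p.1 p.2) := by
    intro u hu
    obtain ⟨mm, f, e⟩ := hfwd (m * u * m⁻¹) ⟨hn.conj_mem u (hUR hu).1 m, conj_conjQ m (hUR hu).2⟩
    exact ⟨(mm, f), by rw [D.conj m u (hUR hu).1, e]⟩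
  choose! p hp using hcoord
  set w := fun u => el (p u).1 (p u).2 with hw
  have hadd : ∀ a ∈ U, ∀ b ∈ U, w (a * b) = w a + w b := by
    intro a ha b hb
    have h := hp _ (mul_mem ha hb)
    rw [D.map_mul a (hUR ha).1 b (hUR hb).1, D.rho_add, hp a ha, hp b hb, ← sm_add'] at h
    have h2 := congrArg (sm (pw (-k))) h
    rw [sm_sm, sm_sm, ← pw_add, neg_add_cancel, pw_zero, sm_one, sm_one] at h2
    exact h2.symm
  have hlab : ∀ u ∈ U, lab (w u) = lab (D.Φ u) := fun u hu => by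
    rw [← D.rho_lab m (D.Φ u), hp u hu, lab_sm]
  have hinv : ∀ u ∈ U, u ≠ 1 → orderOf u = 2 ∧ (u : G) ≠ z := fun u hu hu1 => by
    refine ⟨orderOf_eq_prime (by rw [pow_two, R_sq (D := D) P hzQ (hUR hu)]) hu1, fun e => hzU ?_⟩
    rwa [show zH z = u from Subtype.ext e.symm]
  by_contra hno
  push Not at hno
  have hconst : ∀ a ∈ U, a ≠ 1 → ∀ b ∈ U, b ≠ 1 → lab (w b) = lab (w a) := by
    intro a ha ha1 b hb hb1
    obtain ⟨hoa, hza⟩ := hinv a ha ha1
    obtain ⟨hob, hzb⟩ := hinv b hb hb1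
    have iff := hno a ha b hb ha1 hb1
    rw [isConj_iff_lab hF D (hUR ha).1 hza, isConj_iff_lab hF D (hUR hb).1 hzb] at iff
    have a2 := D.lab_involution (hUR ha).1 hoa hza
    have b2 := D.lab_involution (hUR hb).1 hob hzb
    have a3 := (lab_cases (D.Φ a)).2.1
    have b3 := (lab_cases (D.Φ b)).2.1
    rw [hlab a ha, hlab b hb]
    omega
  have pick : ∀ S : Finset (Subgroup.centralizer ({z} : Set G)), S.card < 16 → ∃ u ∈ U, u ∉ S := by
    intro S hS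
    by_contra h
    push Not at h
    have h1 := Set.ncard_le_ncard (s := (U : Set (Subgroup.centralizer ({z} : Set G)))) h
      S.finite_toSet
    rw [Set.ncard_coe_finset, ← Nat.card_coe_set_eq] at h1
    change Nat.card U ≤ _ at h1
    omega
  have mulne : ∀ x y, x ∈ U → y ≠ x → x * y ≠ 1 := fun x y hx hne e => by
    refine hne ?_
    rw [← inv_eq_of_mul_eq_one_right e]
    exact inv_eq_of_mul_eq_one_right (R_sq (D := D) P hzQ (hUR hx))
  obtain ⟨a, ha, ha'⟩ := pick {1} (by simp)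
  obtain ⟨b, hb, hb'⟩ := pick {1, a} ((Finset.card_le_two).trans_lt (by norm_num))
  obtain ⟨c, hc, hc'⟩ := pick {1, a, b, a * b} ((Finset.card_le_four).trans_lt (by norm_num))
  obtain ⟨d, hd, hd'⟩ := pick {1, a, b, a * b, c, a * c, b * c, a * b * c} (lt_of_le_of_lt
    ((Finset.card_insert_le _ _).trans (Nat.succ_le_succ ((Finset.card_insert_le _ _).trans
      (Nat.succ_le_succ ((Finset.card_insert_le _ _).trans (Nat.succ_le_succ
        ((Finset.card_insert_le _ _).trans (Nat.succ_le_succ Finset.card_le_four))))))))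
    (by norm_num))
  simp only [Finset.mem_insert, Finset.mem_singleton, not_or] at ha' hb' hc' hd'
  obtain ⟨hb1, hba⟩ := hb'
  obtain ⟨hc1, hca, hcb, hcab⟩ := hc'
  obtain ⟨hd1, hda, hdb, hdab, hdc, hdac, hdbc, hdabc⟩ := hd'
  have L : ∀ x ∈ U, x ≠ 1 → lab (w x) = lab (w a) := hconst a ha ha'
  have Lab := L _ (mul_mem ha hb) (mulne a b ha hba)
  have Lac := L _ (mul_mem ha hc) (mulne a c ha hca)
  have Lbc := L _ (mul_mem hb hc) (mulne b c hb hcb)
  have Labc := L _ (mul_mem (mul_mem ha hb) hc) (mulne _ c (mul_mem ha hb) hcab)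
  have Lad := L _ (mul_mem ha hd) (mulne a d ha hda)
  have Lbd := L _ (mul_mem hb hd) (mulne b d hb hdb)
  have Lcd := L _ (mul_mem hc hd) (mulne c d hc hdc)
  have Labd := L _ (mul_mem (mul_mem ha hb) hd) (mulne _ d (mul_mem ha hb) hdab)
  have Lacd := L _ (mul_mem (mul_mem ha hc) hd) (mulne _ d (mul_mem ha hc) hdac)
  have Lbcd := L _ (mul_mem (mul_mem hb hc) hd) (mulne _ d (mul_mem hb hc) hdbc)
  have Labcd := L _ (mul_mem (mul_mem (mul_mem ha hb) hc) hd)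
    (mulne _ d (mul_mem (mul_mem ha hb) hc) hdabc)
  simp only [hadd _ (mul_mem (mul_mem ha hb) hc) _ hd, hadd _ (mul_mem ha hb) _ hc,
    hadd _ (mul_mem ha hb) _ hd, hadd _ (mul_mem ha hc) _ hd, hadd _ (mul_mem hb hc) _ hd,
    hadd _ ha _ hb, hadd _ ha _ hc, hadd _ hb _ hc, hadd _ ha _ hd, hadd _ hb _ hd, hadd _ hc _ hd]
    at Lab Lac Lbc Labc Lad Lbd Lcd Labd Lacd Lbcd Labcd
  have hne0 : w a ≠ 0 := fun e => by
    have h2 := D.lab_involution (hUR ha).1 (hinv a ha ha').1 (hinv a ha ha').2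
    rw [← hlab a ha, e, ((lab_cases 0).1).2 rfl] at h2
    omega
  exact flat_ok (p a).1 (p a).2 hne0 (p b).1 (p b).2 (L b hb hb1) Lab (p c).1 (p c).2 (L c hc hc1)
    Lac Lbc Labc (p d).1 (p d).2 (L d hd hd1) Lad Lbd Lcd Labd Lacd Lbcd Labcd

/-- The facts, given the order of the intersections. -/
theorem facts_of_card (hF : Cfsg.IsOfLargeFischerTypeAt z Q) (D : Model z Q)
    (hR : ∀ g s, Pair Q g s → Nat.card ↥(Q ⊓ conjQ Q g) = 128) : Facts D where
  zmem _ _ P := zmem_of_type hF P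
  card := hR
  wmem _ _ P _ hq e := wmem_of_type hF D hR P hq e
  flat _ _ P U h h16 hz := flat_of_type hF D hR P U h h16 hz
  fuse _ _ P _ ha _ hb ha1 hb1 := fuse_of_type hF D hR P ha hb ha1 hb1

end H88.Fi24Cent
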