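import Cfsg.Agent.H88.Fi24Cent.Basic
import Cfsg.Agent.H50.Simple
import Cfsg.Prelude.Def_MonsterType
import Cfsg.Prelude.Def_CaseTheorems

/-!
The structure of the centraliser, given that it lies in the index two subgroup and that the central
involution is a product of commutators in it.
-/

set_option autoImplicit false
set_option maxHeartbeats 400000

namespace H88.Fi24Cent

open H16.Fi24
open scoped commutatorElement

universe u

variable {G : Type u} [Group G] [Finite G] {z : G}

theorem commutator_le_two {H : Type*} [Group H] (M A : Subgroup H) (hM : M.index = 2) :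
    ⁅A, A⁆ ≤ M := by
  rw [Subgroup.commutator_le]
  intro a _ b _
  rw [commutatorElement_def]
  simp only [Subgroup.mul_mem_iff_of_index_two hM, inv_mem_iff]
  tauto

theorem perfect_psu {K : Type*} [Field K] [Fintype K] (hK : Fintype.card K = 9)
    (hc : ¬ (Nat.card (Cfsg.PSU 4 K 3)).Prime) : commutator (Cfsg.PSU 4 K 3) = ⊤ := by
  haveI : IsSimpleGroup (Cfsg.PSU 4 K 3) :=
    H50.PSU_isSimple (by rw [hK]; norm_num) (by norm_num) (by norm_num)
  rcases (inferInstance : (commutator (Cfsg.PSU 4 K 3)).Normal).eq_bot_or_eq_top with h | h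
  · exfalso
    refine hc ?_
    let i : CommGroup (Cfsg.PSU 4 K 3) :=
      { (inferInstance : Group (Cfsg.PSU 4 K 3)) with
        mul_comm := fun a b => commutatorElement_eq_one_iff_mul_comm.1 (Subgroup.mem_bot.1
          (h ▸ Subgroup.commutator_mem_commutator (Subgroup.mem_top a) (Subgroup.mem_top b))) }
    exact @IsSimpleGroup.prime_card _ i inferInstance
  · exact h

variable {Q X : Subgroup (Subgroup.centralizer ({z} : Set G))} [Q.Normal]

theorem isPGroup_Q (hF : Cfsg.IsOfLargeFischerTypeAt z Q) : IsPGroup 2 Q :=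
  hF.1.2.2.1.1.1

theorem orderOf_z (hF : Cfsg.IsOfLargeFischerTypeAt z Q) : orderOf z = 2 := hF.1.1

theorem main_structure (hF : Cfsg.IsOfLargeFischerTypeAt z Q) (D : Model z Q)
    (hX : Nat.card X = 3) (hXQ : (X ⊔ Q).Normal)
    (hlin : ∀ h, Commute (D.ρ h) wEl → h ∈ D.M)
    (hkey : ⁅K0, K0⁆ = K0 → zH z ∈ ⁅Subgroup.centralizer (X : Set (Subgroup.centralizer ({z} : Set G))),
      Subgroup.centralizer (X : Set (Subgroup.centralizer ({z} : Set G)))⁆) :
    Cfsg.IsQuasisimple ↥(Subgroup.centralizer (X : Set (Subgroup.centralizer ({z} : Set G)))) ∧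
    IsCyclic ↥(Subgroup.center ↥(Subgroup.centralizer (X : Set (Subgroup.centralizer ({z} : Set G))))) ∧
    Nat.card ↥(Subgroup.center ↥(Subgroup.centralizer (X : Set (Subgroup.centralizer ({z} : Set G))))) = 6 ∧
    ∃ (K : Type) (_ : Field K) (_ : Fintype K), Fintype.card K = 9 ∧
      Nonempty (↥(Subgroup.centralizer (X : Set (Subgroup.centralizer ({z} : Set G)))) ⧸
        Subgroup.center ↥(Subgroup.centralizer (X : Set (Subgroup.centralizer ({z} : Set G)))) ≃*
        Cfsg.PSU 4 K 3) := by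
  have hQp := isPGroup_Q hF
  have hE : Cfsg.IsExtraspecial 2 Q := hF.1.2.2.1
  have hz2 := orderOf_z hF
  obtain ⟨x, hxX, hρ, h3, hXx⟩ := exists_gen D hQp hX hXQ
  set C := Subgroup.centralizer (X : Set (Subgroup.centralizer ({z} : Set G))) with hCd
  have memC : ∀ c, c ∈ C ↔ x * c = c * x := fun c => by
    constructor
    · intro h; exact h x hxX
    · intro h a ha
      rw [SetLike.mem_coe, hXx, Subgroup.mem_zpowers_iff] at ha
      obtain ⟨k, rfl⟩ := ha
      exact (Commute.zpow_left h k).eq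
  have hCM : C ≤ D.M := fun c hc => hlin c (by
    have := congrArg D.ρ ((memC c).1 hc)
    rw [_root_.map_mul, _root_.map_mul, hρ] at this
    exact this.symm)
  have hCρ : C.map D.ρ = K0 := by
    refine le_antisymm ?_ fun g hg => ?_
    · rw [← D.map_M]; exact Subgroup.map_mono hCM
    · obtain ⟨c, hc, hcg⟩ := map_cent D hE hρ h3 hz2 hg
      exact ⟨c, (memC c).2 hc, hcg⟩
  obtain ⟨N, M, hN, hM, hQN, hNM, hNc, ⟨K, iK, iK', hK, ⟨e⟩⟩, hMi⟩ := hF.2
  -- the normal subgroup of index three over the core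
  have hNρ : N.map D.ρ = Subgroup.zpowers wEl := by
    refine map_eq_zpowers D hQp N ?_ (by rwa [sup_eq_left.2 hQN])
    have h1 : Nat.card (D.ρ.comp N.subtype).range * Nat.card (D.ρ.comp N.subtype).ker = Nat.card N := by
      rw [← Nat.card_congr (QuotientGroup.quotientKerEquivRange _).toEquiv]
      exact (Subgroup.card_eq_card_quotient_mul_card_subgroup _).symm
    have h2 : (D.ρ.comp N.subtype).ker = Q.subgroupOf N := by
      ext a
      rw [MonoidHom.mem_ker, Subgroup.mem_subgroupOf]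
      exact rho_eq_one D
    rw [h2, Nat.card_congr (Subgroup.subgroupOfEquivOfLe hQN).toEquiv, hNc, MonoidHom.range_comp,
      Subgroup.range_subtype] at h1
    exact Nat.eq_of_mul_eq_mul_right Nat.card_pos h1
  have hNmem : ∀ a, a ∈ N ↔ D.ρ a ∈ Subgroup.zpowers wEl := fun a => by
    rw [← hNρ, ← Subgroup.mem_comap, Subgroup.comap_map_eq, D.ker, sup_eq_left.2 hQN]
  have hcard : Nat.card D.M = Nat.card M := by
    have a := D.M.card_mul_index
    have b := M.card_mul_index
    rw [D.index_M] at a; rw [hMi] at b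
    omega
  have hcardM : Nat.card D.M = 9797760 * Nat.card Q := by
    have h1 : Nat.card (D.ρ.comp D.M.subtype).range * Nat.card (D.ρ.comp D.M.subtype).ker =
        Nat.card D.M := by
      rw [← Nat.card_congr (QuotientGroup.quotientKerEquivRange _).toEquiv]
      exact (Subgroup.card_eq_card_quotient_mul_card_subgroup _).symm
    have h2 : (D.ρ.comp D.M.subtype).ker = Q.subgroupOf D.M := by
      ext a
      rw [MonoidHom.mem_ker, Subgroup.mem_subgroupOf]
      exact rho_eq_one D
    rw [h2, Nat.card_congr (Subgroup.subgroupOfEquivOfLe D.Q_le).toEquiv, MonoidHom.range_comp,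
      Subgroup.range_subtype, D.map_M, D.card_K0] at h1
    exact h1.symm
  haveI := hN
  have hperf : commutator (M ⧸ N.subgroupOf M) = ⊤ := by
    have hp : ¬ (Nat.card (Cfsg.PSU 4 K 3)).Prime := by
      have h1 : Nat.card (Cfsg.PSU 4 K 3) * Nat.card N = Nat.card M := by
        rw [← Nat.card_congr e.toEquiv, ← Nat.card_congr (Subgroup.subgroupOfEquivOfLe hNM).toEquiv]
        exact (Subgroup.card_eq_card_quotient_mul_card_subgroup _).symm
      rw [← hcard, hcardM, hNc, ← mul_assoc] at h1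
      have h2 := Nat.eq_of_mul_eq_mul_right Nat.card_pos h1
      rw [show Nat.card (Cfsg.PSU 4 K 3) = 3265920 by omega]
      norm_num
    refine Subgroup.map_injective (f := e.toMonoidHom) e.injective ?_
    rw [commutator_def, Subgroup.map_commutator,
      Subgroup.map_top_of_surjective e.toMonoidHom e.surjective, ← commutator_def]
    exact perfect_psu hK hp
  have hdec : ∀ m ∈ M, ∃ m' ∈ ⁅M, M⁆, m'⁻¹ * m ∈ N := by
    intro m hm
    have : (QuotientGroup.mk' (N.subgroupOf M)) ⟨m, hm⟩ ∈
        (commutator M).map (QuotientGroup.mk' (N.subgroupOf M)) := by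
      rw [commutator_def, Subgroup.map_commutator,
        Subgroup.map_top_of_surjective _ (QuotientGroup.mk'_surjective _), ← commutator_def, hperf]
      exact Subgroup.mem_top _
    obtain ⟨m', hm', he⟩ := this
    refine ⟨m', ?_, Subgroup.mem_subgroupOf.1 (QuotientGroup.eq.1
      (he : (QuotientGroup.mk m' : M ⧸ N.subgroupOf M) = QuotientGroup.mk ⟨m, hm⟩))⟩
    rw [← Subgroup.map_subtype_commutator]
    exact Subgroup.mem_map_of_mem _ hm'
  have hMeq : M = D.M := by
    refine Subgroup.eq_of_le_of_card_ge (fun m hm => ?_) hcard.le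
    obtain ⟨m', hm', h⟩ := hdec m hm
    have h1 : m' ∈ D.M := commutator_le_two D.M M D.index_M hm'
    have h2 : m'⁻¹ * m ∈ D.M := by
      rw [M_eq_comap D, Subgroup.mem_comap]
      exact zpowers_wEl_le ((hNmem _).1 h)
    have := mul_mem h1 h2
    rwa [mul_inv_cancel_left] at this
  subst hMeq
  have hK0 : ⁅K0, K0⁆ = K0 := by
    refine le_antisymm (Subgroup.commutator_le.2 fun a ha b hb => ?_) fun g hg => ?_
    · rw [commutatorElement_def]
      exact mul_mem (mul_mem (mul_mem ha hb) (inv_mem ha)) (inv_mem hb)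
    obtain ⟨m, hm, rfl⟩ := D.exists_rho hg
    obtain ⟨m', hm', h⟩ := hdec m hm
    have h1 : D.ρ m' ∈ ⁅K0, K0⁆ := by
      rw [← D.map_M, ← Subgroup.map_commutator]
      exact Subgroup.mem_map_of_mem _ hm'
    have h2 : D.ρ (m'⁻¹ * m) ∈ ⁅K0, K0⁆ :=
      Subgroup.zpowers_le.2 wEl_mem_commutator ((hNmem _).1 h)
    have := mul_mem h1 h2
    rwa [← _root_.map_mul, mul_inv_cancel_left] at this
  have hCQ : ∀ c ∈ C, c ∈ Q → c = 1 ∨ c = zH z := fun c hc hq => Q_comm D hρ hq ((memC c).1 hc)
  have hzC : zH z ∈ C := (memC _).2 (zH_comm x).symm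
  have hC' : ⁅C, C⁆ = C := by
    refine le_antisymm (Subgroup.commutator_le.2 fun a ha b hb => ?_) fun c hc => ?_
    · rw [commutatorElement_def]
      exact mul_mem (mul_mem (mul_mem ha hb) (inv_mem ha)) (inv_mem hb)
    obtain ⟨c', hc', he⟩ : D.ρ c ∈ ⁅C, C⁆.map D.ρ := by
      rw [Subgroup.map_commutator, hCρ, hK0, ← hCρ]
      exact Subgroup.mem_map_of_mem _ hc
    have hc'C : c' ∈ C := (Subgroup.commutator_le.2 fun a ha b hb => by
      rw [commutatorElement_def]
      exact mul_mem (mul_mem (mul_mem ha hb) (inv_mem ha)) (inv_mem hb) :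
        ⁅C, C⁆ ≤ C) hc'
    have hq : c'⁻¹ * c ∈ Q := by
      rw [← rho_eq_one D, _root_.map_mul, map_inv, he, inv_mul_cancel]
    rcases hCQ _ (mul_mem (inv_mem hc'C) hc) hq with h | h
    · rwa [← inv_mul_eq_one.1 h]
    · have := mul_mem hc' (hkey hK0)
      rwa [← h, mul_inv_cancel_left] at this
  have hperfC : commutator C = ⊤ := by
    refine Subgroup.map_injective C.subtype_injective ?_
    rw [Subgroup.map_subtype_commutator, hC', ← MonoidHom.range_eq_map, Subgroup.range_subtype]
  have hxC : x ∈ C := (memC x).2 rfl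
  -- the centre
  have hcen : ∀ c : C, c ∈ Subgroup.center C ↔ D.ρ (c : Subgroup.centralizer ({z} : Set G)) ∈
      Subgroup.zpowers wEl := by
    intro c
    constructor
    · intro h
      refine center_K0 (hCρ ▸ Subgroup.mem_map_of_mem _ c.2) fun k hk => ?_
      obtain ⟨d, hd, rfl⟩ : k ∈ C.map D.ρ := hCρ.symm ▸ hk
      rw [← _root_.map_mul, ← _root_.map_mul]
      exact congrArg (fun a : C => D.ρ a) (Subgroup.mem_center_iff.1 h ⟨d, hd⟩).symm
    · intro h
      obtain ⟨k, hk⟩ := Subgroup.mem_zpowers_iff.1 h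
      have hxkC : x ^ k ∈ C := zpow_mem hxC k
      have hq : (x ^ k)⁻¹ * c ∈ Q := by
        rw [← rho_eq_one D, _root_.map_mul, map_inv, map_zpow, hρ, hk, inv_mul_cancel]
      have hxk : ∀ d ∈ C, Commute (x ^ k) d := fun d hd => Commute.zpow_left ((memC d).1 hd) k
      rw [Subgroup.mem_center_iff]
      intro d
      refine Subtype.ext ?_
      rcases hCQ _ (mul_mem (inv_mem hxkC) c.2) hq with h' | h'
      · rw [inv_mul_eq_one] at h'
        simp only [Subgroup.coe_mul]
        rw [← h']; exact (hxk d d.2).eq.symm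
      · rw [inv_mul_eq_iff_eq_mul] at h'
        simp only [Subgroup.coe_mul]
        rw [h']; exact (((hxk d d.2).mul_left (zH_comm _)).eq).symm
  let y : C := ⟨zH z * x, mul_mem hzC hxC⟩
  have hy6 : orderOf y = 6 := by
    have o1 : orderOf (zH z) = 2 := by rw [← Subgroup.orderOf_coe]; exact hz2
    have o2 : orderOf x = 3 := orderOf_eq_prime h3 fun e => wEl_ne_one (by rw [← hρ, e, map_one])
    rw [← Subgroup.orderOf_coe]
    show orderOf (zH z * x) = 6
    rw [Commute.orderOf_mul_eq_mul_orderOf_of_coprime (zH_comm x) (by rw [o1, o2]; norm_num), o1, o2]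
  have hρz : D.ρ (zH z) = 1 := (rho_eq_one D).2 (zH_mem D hE)
  have hcy : Subgroup.center C = Subgroup.zpowers y := by
    refine le_antisymm (fun c hc => ?_) ?_
    · obtain ⟨k, hk⟩ := Subgroup.mem_zpowers_iff.1 ((hcen c).1 hc)
      have hq : ((zH z * x) ^ k)⁻¹ * c ∈ Q := by
        rw [← rho_eq_one D, _root_.map_mul, map_inv, map_zpow, _root_.map_mul, hρz, one_mul, hρ, hk,
          inv_mul_cancel]
      have h3' : (y : Subgroup.centralizer ({z} : Set G)) ^ (3 : ℕ) = zH z := by
        show (zH z * x) ^ 3 = zH z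
        rw [Commute.mul_pow (zH_comm x), h3, mul_one]
        refine Subtype.ext ?_
        show z ^ 3 = z
        rw [pow_succ, ← hz2, pow_orderOf_eq_one, one_mul]
      rcases hCQ _ (mul_mem (inv_mem (zpow_mem y.2 k)) c.2) hq with h | h
      · exact ⟨k, Subtype.ext (by rw [Subgroup.coe_zpow]; exact inv_mul_eq_one.1 h)⟩
      · refine ⟨k + 3, Subtype.ext ?_⟩
        rw [Subgroup.coe_zpow, zpow_add, show ((3 : ℤ)) = ((3 : ℕ) : ℤ) from rfl, zpow_natCast, h3']
        exact (inv_mul_eq_iff_eq_mul.1 h).symm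
    · rw [Subgroup.zpowers_le, hcen]
      show D.ρ (zH z * x) ∈ _
      rw [_root_.map_mul, hρz, one_mul, hρ]
      exact Subgroup.mem_zpowers _
  -- the quotient
  let φ : C →* D.M ⧸ N.subgroupOf D.M := (QuotientGroup.mk' _).comp (Subgroup.inclusion hCM)
  have hφk : φ.ker = Subgroup.center C := by
    ext c
    rw [hcen, MonoidHom.mem_ker]
    show (QuotientGroup.mk' _) (Subgroup.inclusion hCM c) = 1 ↔ _
    rw [← MonoidHom.mem_ker, QuotientGroup.ker_mk', Subgroup.mem_subgroupOf, Subgroup.coe_inclusion,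
      hNmem]
  have hφs : Function.Surjective φ := by
    intro a
    obtain ⟨⟨m, hm⟩, rfl⟩ := QuotientGroup.mk'_surjective _ a
    obtain ⟨c, hc, he⟩ := map_cent D hE hρ h3 hz2 (D.rho_mem m hm)
    refine ⟨⟨c, (memC c).2 hc⟩, QuotientGroup.eq.2 ?_⟩
    rw [Subgroup.mem_subgroupOf]
    refine hQN ?_
    show c⁻¹ * m ∈ Q
    rw [← rho_eq_one D, _root_.map_mul, map_inv, he, inv_mul_cancel]
  let E : C ⧸ Subgroup.center C ≃* Cfsg.PSU 4 K 3 :=
    ((QuotientGroup.quotientMulEquivOfEq hφk).symm.trans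
      (QuotientGroup.quotientKerEquivOfSurjective φ hφs)).trans e
  refine ⟨⟨⟨hperfC⟩, ?_⟩, ?_, ?_, K, iK, iK', hK, ⟨E⟩⟩
  · haveI : IsSimpleGroup (Cfsg.PSU 4 K 3) :=
      H50.PSU_isSimple (by rw [hK]; norm_num) (by norm_num) (by norm_num)
    exact E.isSimpleGroup
  · rw [hcy]; infer_instance
  · rw [hcy, Nat.card_zpowers, hy6]

end H88.Fi24Cent
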