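import Cfsg.Agent.H88.Fi24Cent.Key
import Cfsg.Agent.H88.Fi24Cent.Structure

/-!
The centraliser of the subgroup of order three, from the facts about the configuration.
-/

set_option autoImplicit false

namespace H88.Fi24Cent

open H16.Fi24

universe u

theorem main {G : Type u} [Group G] [Finite G] {z : G}
    {Q X : Subgroup (Subgroup.centralizer ({z} : Set G))} [Q.Normal]
    (hF : Cfsg.IsOfLargeFischerTypeAt z Q) (D : Model z Q) (F : Facts D)
    (hX : Nat.card X = 3) (hXQ : (X ⊔ Q).Normal) :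
    Cfsg.IsQuasisimple ↥(Subgroup.centralizer (X : Set (Subgroup.centralizer ({z} : Set G)))) ∧
    IsCyclic ↥(Subgroup.center ↥(Subgroup.centralizer (X : Set (Subgroup.centralizer ({z} : Set G))))) ∧
    Nat.card ↥(Subgroup.center ↥(Subgroup.centralizer (X : Set (Subgroup.centralizer ({z} : Set G))))) = 6 ∧
    ∃ (K : Type) (_ : Field K) (_ : Fintype K), Fintype.card K = 9 ∧
      Nonempty (↥(Subgroup.centralizer (X : Set (Subgroup.centralizer ({z} : Set G)))) ⧸
        Subgroup.center ↥(Subgroup.centralizer (X : Set (Subgroup.centralizer ({z} : Set G)))) ≃*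
        Cfsg.PSU 4 K 3) := by
  have hz := orderOf_z hF
  have hE : Cfsg.IsExtraspecial 2 Q := hF.1.2.2.1
  obtain ⟨g, ⟨hq, hgQ⟩, hne⟩ := hF.1.2.2.2.2
  have P : Pair Q g ⟨g * z * g⁻¹, hq⟩ := ⟨rfl, hgQ, hne⟩
  obtain ⟨x, hxX, hρ, h3, hXx⟩ := exists_gen D (isPGroup_Q hF) hX hXQ
  refine main_structure hF D hX hXQ (linear_mem F hz (zH_mem D hE) P) fun hK0 => ?_
  refine key F hz hE hρ h3 ⟨g, _, P⟩ hK0 fun c => ⟨fun h => h x hxX, fun h a ha => ?_⟩
  rw [SetLike.mem_coe, hXx, Subgroup.mem_zpowers_iff] at ha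
  obtain ⟨k, rfl⟩ := ha
  exact (Commute.zpow_left h k).eq

end H88.Fi24Cent
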