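import Cfsg.Agent.H88.Fi24Cent.FactsOfType
import Cfsg.Agent.H88.Fi24Cent.Main
import Cfsg.Agent.H16.Fi24.Anti

/-!
The centraliser of the subgroup of order three in a group of large Fischer type.
-/

set_option autoImplicit false

namespace H88.Fi24Cent

open H16.Fi24

universe u

variable {G : Type u} [Group G] [Finite G] {z : G}
  {Q : Subgroup (Subgroup.centralizer ({z} : Set G))} [Q.Normal]

theorem card_of_type (hF : Cfsg.IsOfLargeFischerTypeAt z Q) (D : Model z Q) {g : G}
    {s : Subgroup.centralizer ({z} : Set G)} (P : Pair Q g s) :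
    Nat.card ↥(Q ⊓ conjQ Q g) = 128 := by
  obtain ⟨k, hk, hv⟩ := D.exists_twist_apply P.mem (lab_of_conj_eq hF D P.mem P.eq.symm P.ne)
  rw [← card_inter g]
  exact ((fused hF P.mem P.eq.symm P.ne).image_struct (D.twist k hk) P.mem hv).2.2.1

theorem final (hF : Cfsg.IsOfLargeFischerTypeAt z Q)
    {X : Subgroup (Subgroup.centralizer ({z} : Set G))} (hX : Nat.card X = 3) (hXQ : (X ⊔ Q).Normal) :
    Cfsg.IsQuasisimple ↥(Subgroup.centralizer (X : Set (Subgroup.centralizer ({z} : Set G)))) ∧
    IsCyclic ↥(Subgroup.center ↥(Subgroup.centralizer (X : Set (Subgroup.centralizer ({z} : Set G))))) ∧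
    Nat.card ↥(Subgroup.center ↥(Subgroup.centralizer (X : Set (Subgroup.centralizer ({z} : Set G))))) = 6 ∧
    ∃ (K : Type) (_ : Field K) (_ : Fintype K), Fintype.card K = 9 ∧
      Nonempty (↥(Subgroup.centralizer (X : Set (Subgroup.centralizer ({z} : Set G)))) ⧸
        Subgroup.center ↥(Subgroup.centralizer (X : Set (Subgroup.centralizer ({z} : Set G)))) ≃*
        Cfsg.PSU 4 K 3) := by
  obtain ⟨D⟩ := nonempty_model hF
  exact main hF D (facts_of_card hF D fun _ _ P => card_of_type hF D P) hX hXQ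

end H88.Fi24Cent
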