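import Cfsg.Agent.H16.Fi24.Linear
import Cfsg.Agent.H16.Fi24.Model

/-!
Centre, derived group and centraliser of the model group.
-/

set_option autoImplicit false
set_option maxHeartbeats 100000
set_option maxRecDepth 100000

namespace H88.Fi24Cent

open H16.Fi24
open scoped commutatorElement

/-- The scalar of order three. -/
def wEl : Equiv.Perm W := mono 1 (fun _ => 1)

theorem wEl_eq : ⇑wEl = wW := by
  funext v i
  show mu (pw 1) (v i) = mu (0, 1) (v i)
  rfl

theorem wEl_mem_E1 : wEl ∈ E1 := mem_E1.2 ⟨_, by decide, rfl⟩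

theorem wEl_mem : wEl ∈ K0 := Subgroup.mem_sup_left wEl_mem_E1

theorem wEl_pow_three : wEl ^ 3 = 1 := by
  rw [show wEl ^ 3 = wEl * wEl * wEl from by rw [pow_succ, pow_two], wEl, mono_mul, mono_mul]
  simp only [mul_one]
  rw [show ((fun _ : Fin 6 => (1 : ZMod 3)) + (fun _ => 1) ∘ ⇑(1 : Equiv.Perm (Fin 6)).symm +
    (fun _ => 1) ∘ ⇑(1 : Equiv.Perm (Fin 6)).symm) = 0 from funext fun _ => (by decide : (1 : ZMod 3) + 1 + 1 = 0)]
  exact mono_one

theorem wEl_ne_one : wEl ≠ 1 := fun e => by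
  have := (mono_eq_one e).2
  exact absurd (congrFun this 0) (by decide)

theorem wEl_commute {g : Equiv.Perm W} (hg : IsUni g) : Commute wEl g :=
  Equiv.ext fun v => by
    show wEl (g v) = g (wEl v)
    rw [wEl_eq]; exact (hg.wcomm v).symm

theorem smul_single (a b : F4) (j : Fin 6) : sm a (Pi.single j b) = Pi.single j (mu a b) := by
  funext i
  rcases eq_or_ne i j with rfl | h
  · simp [sm]
  · simp [sm, Pi.single_eq_of_ne h, mu_zero]

/-- An additive map commuting with the diagonal group maps coordinate lines to themselves and is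
linear on them. -/
theorem diag_of_comm (x : Equiv.Perm W) (hx : ∀ d : Fin 6 → ZMod 3, ∑ i, d i = 0 →
    ∀ v, x (mono 1 d v) = mono 1 d (x v)) (j : Fin 6) (a : F4) :
    (∀ i, i ≠ j → x (Pi.single j a) i = 0) ∧
      x (Pi.single j (mu (pw 1) a)) j = mu (pw 1) (x (Pi.single j a) j) := by
  have third : ∀ i j : Fin 6, i ≠ j → ∃ k, k ≠ i ∧ k ≠ j := by decide
  have hs : ∀ (d : Fin 6 → ZMod 3) (a : F4), mono 1 d (Pi.single j a) = Pi.single j (mu (pw (d j)) a) := by
    intro d a; funext i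
    rw [mono_apply]
    show mu (pw (d i)) ((Pi.single j a : W) i) = _
    rcases eq_or_ne i j with rfl | h
    · simp
    · simp [Pi.single_eq_of_ne h, mu_zero]
  constructor
  · intro i hi
    obtain ⟨k, hki, hkj⟩ := third i j hi
    have h := hx (Pi.single i 1 + Pi.single k 2) (by
      simp [Finset.sum_add_distrib]; decide) (Pi.single j a)
    rw [hs] at h
    have e : (Pi.single i 1 + Pi.single k 2 : Fin 6 → ZMod 3) j = 0 := by
      simp [Pi.single_eq_of_ne hi.symm, Pi.single_eq_of_ne hkj.symm]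
    rw [e, pw_zero, mu_one] at h
    have h' := congrFun h i
    rw [mono_apply] at h'
    have e' : (Pi.single i 1 + Pi.single k 2 : Fin 6 → ZMod 3) i = 1 := by
      simp [Pi.single_eq_of_ne hki.symm]
    rw [e'] at h'
    revert h'
    show x (Pi.single j a) i = mu (pw 1) (x (Pi.single j a) i) → _
    generalize x (Pi.single j a) i = y
    revert y; decide
  · have two : ∀ j : Fin 6, ∃ k, k ≠ j := by decide
    obtain ⟨k, hk⟩ := two j
    have h := hx (Pi.single j 1 + Pi.single k 2) (by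
      simp [Finset.sum_add_distrib]; decide) (Pi.single j a)
    rw [hs] at h
    have e : (Pi.single j 1 + Pi.single k 2 : Fin 6 → ZMod 3) j = 1 := by
      simp [Pi.single_eq_of_ne hk.symm]
    rw [e] at h
    rw [h, mono_apply, e]
    rfl

theorem TW_shape : ∀ e : Fin 6 → ZMod 3,
    ((∀ i, i ≠ 0 → TW (mono 1 e (TW (bv 0))) i = 0) ∧ ∀ i, i ≠ 1 → TW (mono 1 e (TW (bv 1))) i = 0) →
      e = fun _ => e 0 := by decide +kernel

/-- An additive bijection commuting with both elementary groups is a scalar. -/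
theorem scalar_of_comm (x : Equiv.Perm W) (hadd : ∀ u v, x (u + v) = x u + x v)
    (h1 : ∀ g ∈ E1, Commute x g) (h2 : ∀ g ∈ E2, Commute x g) :
    x ∈ Subgroup.zpowers wEl := by
  have c1 : ∀ d : Fin 6 → ZMod 3, ∑ i, d i = 0 → ∀ v, x (mono 1 d v) = mono 1 d (x v) :=
    fun d hd v => congrArg (fun g : Equiv.Perm W => g v) (h1 _ (mem_E1.2 ⟨d, hd, rfl⟩)).eq
  have c2 : ∀ d : Fin 6 → ZMod 3, ∑ i, d i = 0 →
      ∀ v, (TW * x * TW) (mono 1 d v) = mono 1 d ((TW * x * TW) v) := by
    intro d hd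
    have hc := (h2 _ (mem_E2.2 ⟨d, hd, rfl⟩)).eq
    have : Commute (TW * x * TW) (mono 1 d) := by
      have h' : TW * (x * (TW * mono 1 d * TW)) * TW = TW * (TW * mono 1 d * TW * x) * TW := by rw [hc]
      calc TW * x * TW * mono 1 d = TW * x * TW * mono 1 d * (TW * TW) := by rw [TW_sq, mul_one]
        _ = TW * (x * (TW * mono 1 d * TW)) * TW := by simp only [mul_assoc]
        _ = TW * (TW * mono 1 d * TW * x) * TW := h'
        _ = (TW * TW) * mono 1 d * (TW * x * TW) := by simp only [mul_assoc]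
        _ = mono 1 d * (TW * x * TW) := by rw [TW_sq, one_mul]
    exact fun v => congrArg (fun g : Equiv.Perm W => g v) this.eq
  have x0 : x 0 = 0 := by have := hadd 0 0; rw [add_zero] at this; exact left_eq_add.mp this
  have hj : ∀ j, ∃ k, x (bv j) = Pi.single j (pw k) := by
    intro j
    have hne : x (bv j) ≠ 0 := fun e => by
      have := congrFun (x.injective (e.trans x0.symm)) j
      simp [bv] at this
    have hz := (diag_of_comm x c1 j (1, 0)).1
    obtain ⟨k, hk⟩ := exists_pw (x (bv j) j) (fun e => hne (funext fun i => by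
      rcases eq_or_ne i j with rfl | h
      · exact e
      · exact hz i h))
    refine ⟨k, funext fun i => ?_⟩
    rcases eq_or_ne i j with rfl | h
    · simp [hk]
    · rw [Pi.single_eq_of_ne h]; exact hz i h
  choose e he using hj
  have hlin : ∀ j, ∀ a : F4, x (Pi.single j a) = Pi.single j (mu (pw (e j)) a) := by
    intro j
    have h1' : x (Pi.single j (1, 0)) = Pi.single j (mu (pw (e j)) (1, 0)) := by
      rw [mu_comm, mu_one]; exact he j
    have h2' : x (Pi.single j (0, 1)) = Pi.single j (mu (pw (e j)) (0, 1)) := by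
      funext i
      rcases eq_or_ne i j with rfl | h
      · have := (diag_of_comm x c1 i (1, 0)).2
        rw [mu_comm, mu_one] at this
        rw [show ((0, 1) : F4) = pw 1 from rfl, this, h1', Pi.single_eq_same, Pi.single_eq_same,
          mu_comm (pw (e i)) (1, 0), mu_one, mu_comm]
      · rw [Pi.single_eq_of_ne h]; exact (diag_of_comm x c1 j _).1 i h
    intro a
    have ha : ∀ a : F4, a = 0 ∨ a = (1, 0) ∨ a = (0, 1) ∨ a = (1, 0) + (0, 1) := by decide
    rcases ha a with rfl | rfl | rfl | rfl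
    · simp [x0, mu_zero]
    · exact h1'
    · exact h2'
    · rw [Pi.single_add, hadd, h1', h2', mu_add, Pi.single_add]
  have hx : x = mono 1 e := by
    refine Equiv.ext fun v => ?_
    let f : W →+ W := AddMonoidHom.mk' x hadd
    have : x v = ∑ j, x (Pi.single j (v j)) := by
      conv_lhs => rw [← Finset.univ_sum_single v]
      exact map_sum f _ _
    rw [this]
    funext i
    rw [Finset.sum_apply, mono_apply, Finset.sum_eq_single i (fun j _ h => by
      rw [hlin, Pi.single_eq_of_ne h.symm]) (fun h => absurd (Finset.mem_univ i) h), hlin,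
      Pi.single_eq_same]
    rfl
  subst hx
  have hconst := TW_shape e ⟨(diag_of_comm _ c2 0 (1, 0)).1, (diag_of_comm _ c2 1 (1, 0)).1⟩
  rw [Subgroup.mem_zpowers_iff]
  refine ⟨((e 0).val : ℤ), ?_⟩
  rw [zpow_natCast]
  have hp : ∀ n : ℕ, wEl ^ n = mono 1 (fun _ => (n : ZMod 3)) := by
    intro n
    induction n with
    | zero => rw [pow_zero, ← mono_one]; exact congrArg _ (funext fun _ => by simp)
    | succ n ih =>
      rw [pow_succ, ih, wEl, mono_mul, mul_one]
      exact congrArg _ (funext fun _ => by simp)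
  rw [hp, ZMod.natCast_zmod_val]
  exact congrArg _ hconst.symm

/-- A word. -/
def word (a b c : Fin 6 → ZMod 3) : Equiv.Perm W :=
  TW * mono 1 a * TW * mono 1 b * (TW * mono 1 c * TW)

theorem word_mem {a b c : Fin 6 → ZMod 3} (ha : ∑ i, a i = 0) (hb : ∑ i, b i = 0)
    (hc : ∑ i, c i = 0) : word a b c ∈ K0 :=
  mul_mem (mul_mem (Subgroup.mem_sup_right (mem_E2.2 ⟨a, ha, rfl⟩))
    (Subgroup.mem_sup_left (mem_E1.2 ⟨b, hb, rfl⟩))) (Subgroup.mem_sup_right (mem_E2.2 ⟨c, hc, rfl⟩))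

theorem word_ok : ∀ j,
    (word ![0, 0, 0, 0, 1, 2] ![0, 0, 0, 1, 1, 1] ![0, 0, 0, 2, 1, 0]) (mono 1 ![0, 0, 0, 0, 1, 2] (bv j)) =
      mono 1 ![0, 0, 0, 1, 1, 1] (mono 1 ![0, 0, 0, 0, 1, 2]
        (word ![0, 0, 0, 0, 1, 2] ![0, 0, 0, 1, 1, 1] ![0, 0, 0, 2, 1, 0] (bv j))) ∧
    (word ![0, 1, 2, 0, 0, 0] ![1, 1, 1, 0, 0, 0] ![2, 1, 0, 0, 0, 0]) (mono 1 ![0, 1, 2, 0, 0, 0] (bv j)) =
      mono 1 ![1, 1, 1, 0, 0, 0] (mono 1 ![0, 1, 2, 0, 0, 0]
        (word ![0, 1, 2, 0, 0, 0] ![1, 1, 1, 0, 0, 0] ![2, 1, 0, 0, 0, 0] (bv j))) := by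
  decide +kernel

theorem commutator_eq_of_basis {g : Equiv.Perm W} {a b : Fin 6 → ZMod 3} (hg : g ∈ K0)
    (ha : ∑ i, a i = 0) (h : ∀ j, g (mono 1 a (bv j)) = mono 1 b (mono 1 a (g (bv j)))) :
    mono 1 b ∈ ⁅K0, K0⁆ := by
  have hu : IsUni ⇑g := isUni_K0 hg
  have hf : (⇑g ∘ ⇑(mono 1 a)) = (⇑(mono 1 b) ∘ ⇑(mono 1 a)) ∘ ⇑g :=
    IsUni.ext_basis (hu.comp (isUni_mono 1 a)) (((isUni_mono 1 b).comp (isUni_mono 1 a)).comp hu) h
  have e : g * mono 1 a = mono 1 b * mono 1 a * g := Equiv.ext fun v => congrFun hf v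
  have e' : mono 1 b = ⁅g, mono 1 a⁆ := by
    rw [commutatorElement_def, e, mul_inv_cancel_right, mul_inv_cancel_right]
  rw [e']
  exact Subgroup.commutator_mem_commutator hg (Subgroup.mem_sup_left (mem_E1.2 ⟨a, ha, rfl⟩))

theorem wEl_mem_commutator : wEl ∈ ⁅K0, K0⁆ := by
  have h1 := commutator_eq_of_basis (word_mem (by decide) (by decide) (by decide)) (by decide) fun j => (word_ok j).1
  have h2 := commutator_eq_of_basis (word_mem (by decide) (by decide) (by decide)) (by decide) fun j => (word_ok j).2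
  have := mul_mem h1 h2
  rw [mono_mul, mul_one] at this
  rwa [show (![0, 0, 0, 1, 1, 1] + ![1, 1, 1, 0, 0, 0] ∘ ⇑(1 : Equiv.Perm (Fin 6)).symm :
    Fin 6 → ZMod 3) = fun _ => 1 from funext (by decide)] at this

end H88.Fi24Cent
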