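import Cfsg.Agent.H88.Fi24Cent.Outer

/-!
The central involution is a product of commutators in the centraliser of the subgroup of order three.
-/

set_option autoImplicit false
set_option maxHeartbeats 400000

namespace H88.Fi24Cent

open H16.Fi24
open scoped commutatorElement

universe u

variable {G : Type u} [Group G] {z : G} {Q : Subgroup (Subgroup.centralizer ({z} : Set G))}
  {D : Model z Q}

theorem w_fix : ∀ a : F4, mu (0, 1) a = mu (0, 1) (mu (0, 1) a) → a = 0 := by decide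

theorem line_cases : ∀ c : F4, c = 0 ∨ c = (1, 0) ∨ c = (0, 1) ∨ c = mu (0, 1) (0, 1) := by decide

theorem coe_comm_z (x : Subgroup.centralizer ({z} : Set G)) : (x : G) * z = z * x :=
  Subgroup.mem_centralizer_singleton_iff.1 x.2

include D in
/-- The conjugate can be chosen so that the product over its orbit is trivial. -/
theorem exists_normalised [hn : Q.Normal] (hz : orderOf z = 2)
    {x : Subgroup.centralizer ({z} : Set G)} (hρ : D.ρ x = wEl)
    (hP : ∃ g s, Pair Q g s) :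
    ∃ g s, Pair Q g s ∧ s * s = 1 ∧ s * (x * s * x⁻¹) = x * s * x⁻¹ * s ∧
      x * (x * s * x⁻¹) * x⁻¹ = s * (x * s * x⁻¹) := by
  obtain ⟨g, s, P⟩ := hP
  have hz2 : z * z = 1 := by rw [← pow_two, ← hz, pow_orderOf_eq_one]
  have hs2 : ∀ g s, Pair Q g s → s * s = 1 := fun g s P => Subtype.ext (by
    show (s : G) * s = 1
    rw [P.eq]
    calc g * z * g⁻¹ * (g * z * g⁻¹) = g * (z * z) * g⁻¹ := by group
      _ = 1 := by rw [hz2, mul_one, mul_inv_cancel])
  have hs1 : ∀ g s, Pair Q g s → s * (x * s * x⁻¹) = x * s * x⁻¹ * s := fun g s P => by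
    refine (D.comm s P.mem _ (P.conj x).mem).2 ?_
    rw [Phi_conj D hρ P.mem]
    have h0 : qf (D.Φ s) = 0 := (D.sq s P.mem).1 (hs2 g s P)
    have h1 : ∀ v, qf (wW v) = qf v := fun v => by rw [← wEl_eq, ← hρ]; exact D.rho_qf x v
    have h2 : D.Φ s + wW (D.Φ s) = wW (wW (D.Φ s)) := by
      conv_lhs => arg 1; rw [← one_add_wW (D.Φ s)]
      rw [add_right_comm, add_self_W, zero_add]
    simp only [Bf, h2, h1, h0]; decide
  have done : ∀ g s, Pair Q g s → s * (x * s * x⁻¹) * (x * (x * s * x⁻¹) * x⁻¹) = 1 →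
      x * (x * s * x⁻¹) * x⁻¹ = s * (x * s * x⁻¹) := by
    intro g s P h
    have e : (s * (x * s * x⁻¹)) * (s * (x * s * x⁻¹)) = 1 := by
      calc _ = s * (x * s * x⁻¹ * s) * (x * s * x⁻¹) := by group
        _ = s * (s * (x * s * x⁻¹)) * (x * s * x⁻¹) := by rw [hs1 g s P]
        _ = s * s * (x * (s * s) * x⁻¹) := by group
        _ = 1 := by rw [hs2 g s P]; group
    exact mul_left_cancel (h.trans e.symm)
  have hp : D.Φ (s * (x * s * x⁻¹) * (x * (x * s * x⁻¹) * x⁻¹)) = 0 := by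
    rw [D.map_mul _ (mul_mem P.mem (P.conj x).mem) _ ((P.conj x).conj x).mem,
      D.map_mul _ P.mem _ (P.conj x).mem, Phi_conj D hρ (P.conj x).mem, Phi_conj D hρ P.mem,
      add_assoc, one_add_wW, add_self_W]
  rcases eq_zero' D (mul_mem (mul_mem P.mem (P.conj x).mem) ((P.conj x).conj x).mem) hp with h | h
  · exact ⟨g, s, P, hs2 g s P, hs1 g s P, done g s P h⟩
  obtain ⟨y, hy, hsy⟩ := D.exists_move P.mem (P.Phi_ne D (z_ne_one hz))
  have hys : y * s * y⁻¹ = s * zH z := by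
    rcases commutator_Q D hy P.mem with h' | h'
    · exact absurd (mul_inv_eq_iff_eq_mul.1 h').symm hsy
    · exact h'
  have P' := P.conj y
  refine ⟨_, _, P', hs2 _ _ P', hs1 _ _ P', done _ _ P' ?_⟩
  rw [hys]
  have c : ∀ a, zH z * a = a * zH z := zH_comm
  have hzz : zH z * zH z = 1 := Subtype.ext hz2
  have e1 : x * (s * zH z) * x⁻¹ = x * s * x⁻¹ * zH z := by
    rw [← mul_assoc x, mul_assoc (x * s), c x⁻¹, ← mul_assoc]
  have e2 : x * (x * s * x⁻¹ * zH z) * x⁻¹ = x * (x * s * x⁻¹) * x⁻¹ * zH z := by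
    rw [← mul_assoc x (x * s * x⁻¹), mul_assoc (x * (x * s * x⁻¹)), c x⁻¹, ← mul_assoc]
  rw [e1, e2]
  generalize x * s * x⁻¹ = a at h ⊢
  generalize x * a * x⁻¹ = b at h ⊢
  calc s * zH z * (a * zH z) * (b * zH z)
      = s * (zH z * a) * (zH z * b) * zH z := by group
    _ = s * (a * zH z) * (b * zH z) * zH z := by rw [c a, c b]
    _ = s * a * (zH z * b) * (zH z * zH z) := by group
    _ = s * a * b * zH z := by rw [c b, hzz]; group
    _ = 1 := by rw [h, hzz]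

theorem key [Finite G] [hn : Q.Normal] (F : Facts D) (hz : orderOf z = 2)
    (hE : Cfsg.IsExtraspecial 2 Q) {x : Subgroup.centralizer ({z} : Set G)} (hρ : D.ρ x = wEl)
    (h3 : x ^ 3 = 1) (hP : ∃ g s, Pair Q g s) (hK0 : ⁅K0, K0⁆ = K0)
    {C : Subgroup (Subgroup.centralizer ({z} : Set G))} (memC : ∀ c, c ∈ C ↔ x * c = c * x) :
    zH z ∈ ⁅C, C⁆ := by
  by_contra hzL
  have hzQ := zH_mem D hE
  have hz1 := z_ne_one hz
  obtain ⟨g, s, P, hss, hcs, hprod⟩ := exists_normalised (D := D) hz hρ hP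
  have hv := P.Phi_ne D hz1
  set s1 := x * s * x⁻¹ with hs1d
  have P1 : Pair Q ((x : G) * g) s1 := P.conj x
  have hxm : x⁻¹ * s * x = s * s1 := by
    rw [← hprod, hs1d]
    have e : x⁻¹ = x * x := inv_eq_of_mul_eq_one_right (by rw [← h3]; simp [pow_succ, mul_assoc])
    calc x⁻¹ * s * x = x⁻¹ * s * (x⁻¹)⁻¹ := by rw [inv_inv]
      _ = x * x * s * (x * x)⁻¹ := by rw [e]
      _ = _ := by group
  have hne1 : s1 ≠ s := fun e => by
    have := congrArg D.Φ e
    rw [hs1d, Phi_conj D hρ P.mem] at this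
    exact hv (wW_eq_self this)
  have hsg : s ∈ conjQ Q g := P.mem_conjQ hzQ
  have hs1g : s1 ∈ conjQ Q g := F.wmem g s P _ P1.mem (Phi_conj D hρ P.mem)
  have shift : ∀ a, a ∈ conjQ Q ((x : G) * g) ↔ x⁻¹ * a * x ∈ conjQ Q g := fun a => by
    show ((x : G) * g)⁻¹ * (a : G) * ((x : G) * g) ∈ QG Q ↔ g⁻¹ * ((x : G)⁻¹ * a * x) * g ∈ QG Q
    rw [show g⁻¹ * ((x : G)⁻¹ * a * x) * g = ((x : G) * g)⁻¹ * (a : G) * ((x : G) * g) by group]
  set A1 := conjQ Q g ⊓ conjQ Q ((x : G) * g) with hA1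
  have mem1 : ∀ a, a ∈ A1 ↔ a ∈ conjQ Q g ∧ a ∈ conjQ Q ((x : G) * g) := fun a => Subgroup.mem_inf
  have hsA : s ∈ A1 := (mem1 _).2 ⟨hsg, (shift s).2 (hxm ▸ mul_mem hsg hs1g)⟩
  have hs1A : s1 ∈ A1 := (mem1 _).2 ⟨hs1g, P1.mem_conjQ hzQ⟩
  have hzA : zH z ∈ A1 := (mem1 _).2 ⟨F.zmem g s P, F.zmem _ _ P1⟩
  have habel : ∀ a ∈ A1, ∀ b ∈ A1, a * b = b * a := by
    intro a ha b hb
    have i1 := commutator_QG D (mem_conjQ.1 ((mem1 a).1 ha).1) (mem_conjQ.1 ((mem1 b).1 hb).1)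
    have i2 := commutator_QG D (mem_conjQ.1 ((mem1 a).1 ha).2) (mem_conjQ.1 ((mem1 b).1 hb).2)
    rw [← P.eq] at i1
    rw [← P1.eq] at i2
    refine Subtype.ext (mul_inv_eq_iff_eq_mul.1 ?_)
    rcases i1 with i1 | i1
    · exact i1
    rcases i2 with i2 | i2
    · exact i2
    exact absurd (Subtype.ext (mul_left_cancel (i2.symm.trans i1))) hne1
  have hsq : ∀ a ∈ A1, a * a = 1 := by
    intro a ha
    have sq : ∀ g' : G, InConj Q g' a → (a : G) * a = 1 ∨ (a : G) * a = g' * z * g'⁻¹ := by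
      intro g' h
      obtain ⟨p, hp, hpe⟩ := mem_QG.1 h
      have ea : (a : G) = g' * p * g'⁻¹ := by rw [hpe]; group
      have hp0 : D.Φ (p * p) = 0 := by rw [D.map_mul p hp p hp, add_self_W]
      rw [ea, show g' * p * g'⁻¹ * (g' * p * g'⁻¹) = g' * ((p : G) * p) * g'⁻¹ by group]
      rcases eq_zero' D (mul_mem hp hp) hp0 with h' | h'
      · left; rw [show (p : G) * p = 1 from congrArg Subtype.val h']; group
      · right; rw [show (p : G) * p = z from congrArg Subtype.val h']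
    refine Subtype.ext ?_
    show (a : G) * a = 1
    rcases sq g ((mem1 a).1 ha).1 with i1 | i1
    · exact i1
    rcases sq _ ((mem1 a).1 ha).2 with i2 | i2
    · exact i2
    rw [← P.eq] at i1
    rw [← P1.eq] at i2
    exact absurd (Subtype.ext (i2.symm.trans i1)) hne1
  -- transport to the extraspecial group
  obtain ⟨t1, ht1, ht1e⟩ := mem_QG.1 (mem_conjQ.1 hs1g)
  have Pt : Pair Q (g⁻¹ * x * g) t1 :=
    { eq := by rw [ht1e, P1.eq]; group
      mem := ht1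
      ne := fun e => hne1 (Subtype.ext (by
        rw [P.eq]
        calc (s1 : G) = g * (g⁻¹ * s1 * g) * g⁻¹ := by group
          _ = g * z * g⁻¹ := by rw [← ht1e, e])) }
  have htz : (g⁻¹ * z * g : G) ∈ QG Q := F.zmem g s P
  obtain ⟨t, ht, hte⟩ := mem_QG.1 htz
  have htR : t ∈ conjQ Q (g⁻¹ * x * g) := by
    show (g⁻¹ * x * g)⁻¹ * (t : G) * (g⁻¹ * x * g) ∈ QG Q
    rw [hte, show (g⁻¹ * x * g)⁻¹ * (g⁻¹ * z * g) * (g⁻¹ * x * g) = g⁻¹ * ((x : G)⁻¹ * (z * x)) * g by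
      group, ← coe_comm_z, inv_mul_cancel_left]
    exact htz
  let φ : A1 →* Subgroup.centralizer ({z} : Set G) := MonoidHom.mk'
    (fun a => ⟨g⁻¹ * (a : Subgroup.centralizer ({z} : Set G)) * g, by
      have h := mem_conjQ.1 ((mem1 _).1 a.2).1
      obtain ⟨q, -, hq⟩ := mem_QG.1 h
      rw [← hq]; exact q.2⟩)
    (fun a b => Subtype.ext (by
      show g⁻¹ * (((a : Subgroup.centralizer ({z} : Set G)) : G) *
        ((b : Subgroup.centralizer ({z} : Set G)) : G)) * g = _ * _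
      group))
  have hφ : ∀ a, φ a ∈ Q ⊓ conjQ Q (g⁻¹ * x * g) := by
    intro a
    refine ⟨mem_Q_of_QG ((mem1 _).1 a.2).1, ?_⟩
    show (g⁻¹ * x * g)⁻¹ * (g⁻¹ * (a : Subgroup.centralizer ({z} : Set G)) * g) * (g⁻¹ * x * g) ∈ QG Q
    have := mem_conjQ.1 ((mem1 _).1 a.2).2
    unfold InConj at this
    rwa [show (g⁻¹ * x * g)⁻¹ * (g⁻¹ * ((a : Subgroup.centralizer ({z} : Set G)) : G) * g) *
      (g⁻¹ * x * g) = ((x : G) * g)⁻¹ * (a : Subgroup.centralizer ({z} : Set G)) * ((x : G) * g) by group]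
  have hinj : Function.Injective φ := fun a b h => Subtype.ext (Subtype.ext (by
    have h' : g⁻¹ * ((a : Subgroup.centralizer ({z} : Set G)) : G) * g =
        g⁻¹ * ((b : Subgroup.centralizer ({z} : Set G)) : G) * g := congrArg Subtype.val h
    exact mul_left_cancel (mul_right_cancel h')))
  have hsurj : ∀ q ∈ Q ⊓ conjQ Q (g⁻¹ * x * g), ∃ a, φ a = q := by
    rintro q ⟨hqQ, hqh⟩
    have hqt : q * t = t * q := by
      rcases commutator_Q D hqQ ht with i1 | i1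
      · exact mul_inv_eq_iff_eq_mul.1 i1
      have i2 := commutator_QG D (mem_conjQ.1 hqh) (mem_conjQ.1 htR)
      rw [← Pt.eq] at i2
      rcases i2 with i2 | i2
      · exact Subtype.ext (mul_inv_eq_iff_eq_mul.1 i2)
      · exact absurd (mul_left_cancel ((congrArg Subtype.val i1).symm.trans i2)).symm Pt.ne
    have hqt' : (q : G) * (g⁻¹ * z * g) = g⁻¹ * z * g * q := hte ▸ congrArg Subtype.val hqt
    have hmem : g * (q : G) * g⁻¹ ∈ Subgroup.centralizer ({z} : Set G) := by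
      rw [Subgroup.mem_centralizer_singleton_iff]
      calc g * (q : G) * g⁻¹ * z = g * ((q : G) * (g⁻¹ * z * g)) * g⁻¹ := by group
        _ = g * (g⁻¹ * z * g * q) * g⁻¹ := by rw [hqt']
        _ = z * (g * (q : G) * g⁻¹) := by group
    refine ⟨⟨⟨_, hmem⟩, (mem1 _).2 ⟨?_, ?_⟩⟩, Subtype.ext (by
      show g⁻¹ * (g * (q : G) * g⁻¹) * g = q
      group)⟩
    · show g⁻¹ * (g * (q : G) * g⁻¹) * g ∈ QG Q
      rw [show g⁻¹ * (g * (q : G) * g⁻¹) * g = q by group]
      exact coe_mem_QG hqQ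
    · show ((x : G) * g)⁻¹ * (g * (q : G) * g⁻¹) * ((x : G) * g) ∈ QG Q
      have := mem_conjQ.1 hqh
      unfold InConj at this
      rwa [show ((x : G) * g)⁻¹ * (g * (q : G) * g⁻¹) * ((x : G) * g) =
        (g⁻¹ * x * g)⁻¹ * (q : G) * (g⁻¹ * x * g) by group]
  have hcard : Nat.card A1 = 128 := by
    rw [← F.card _ _ Pt]
    exact Nat.card_congr (Equiv.ofBijective (fun a => ⟨φ a, hφ a⟩)
      ⟨fun a b h => hinj (congrArg Subtype.val h),
        fun q => by obtain ⟨a, ha⟩ := hsurj q q.2; exact ⟨a, Subtype.ext ha⟩⟩)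
  -- invariance
  have hinv : ∀ a ∈ A1, x * a * x⁻¹ ∈ A1 := by
    intro a ha
    have a2 : InConj Q ((x : G) * x * g) a := by
      obtain ⟨y, hy, hty⟩ := D.exists_move ht1 (Pt.Phi_ne D hz1)
      have hyt : y * t1 * y⁻¹ = t1 * zH z := by
        rcases commutator_Q D hy ht1 with h' | h'
        · exact absurd (mul_inv_eq_iff_eq_mul.1 h').symm hty
        · exact h'
      set q := φ ⟨a, ha⟩ with hq
      obtain ⟨hqQ, hqh⟩ := hφ ⟨a, ha⟩
      have hq' : InConj Q (g⁻¹ * x * g) ((y⁻¹ * q * y : Subgroup.centralizer ({z} : Set G)) : G) := by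
        rcases commutator_Q D (inv_mem hy) hqQ with h' | h' <;> rw [inv_inv] at h' <;> rw [h']
        · exact hqh
        · exact mul_mem (s := conjQ Q (g⁻¹ * x * g)) hqh (F.zmem _ _ Pt)
      have hconj := inConj_left (h := (y : G)) hq'
      rw [show (y : G) * ((y⁻¹ * q * y : Subgroup.centralizer ({z} : Set G)) : G) * (y : G)⁻¹ =
        (q : G) by
          show (y : G) * ((y : G)⁻¹ * q * y) * (y : G)⁻¹ = q
          group] at hconj
      have heq : (y : G) * (g⁻¹ * x * g) * z * ((y : G) * (g⁻¹ * x * g))⁻¹ =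
          g⁻¹ * ((x : G) * x * g) * z * (g⁻¹ * ((x : G) * x * g))⁻¹ := by
        have e1 : (y : G) * t1 * (y : G)⁻¹ = t1 * z := congrArg Subtype.val hyt
        have e2 : (x : G) * s1 * (x : G)⁻¹ = s * s1 := congrArg Subtype.val hprod
        have e3 : (s : G) * s1 = s1 * s := congrArg Subtype.val hcs
        calc _ = (y : G) * ((g⁻¹ * x * g) * z * (g⁻¹ * x * g)⁻¹) * (y : G)⁻¹ := by group
          _ = t1 * z := by rw [← Pt.eq, e1]
          _ = g⁻¹ * ((x : G) * s1 * (x : G)⁻¹) * g := by rw [ht1e, e2, e3, P.eq]; group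
          _ = _ := by rw [P1.eq]; group
      have := inConj_congr heq hconj
      show ((x : G) * x * g)⁻¹ * (a : G) * ((x : G) * x * g) ∈ QG Q
      have h' : (g⁻¹ * ((x : G) * x * g))⁻¹ * (g⁻¹ * (a : G) * g) * (g⁻¹ * ((x : G) * x * g)) ∈ QG Q :=
        this
      rwa [show (g⁻¹ * ((x : G) * x * g))⁻¹ * (g⁻¹ * (a : G) * g) * (g⁻¹ * ((x : G) * x * g)) =
        ((x : G) * x * g)⁻¹ * (a : G) * ((x : G) * x * g) by group] at h'
    refine (mem1 _).2 ⟨?_, (shift _).2 ?_⟩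
    · show g⁻¹ * ((x : G) * a * (x : G)⁻¹) * g ∈ QG Q
      have h3' : (x : G) * x * x = 1 := by
        have := congrArg Subtype.val h3
        rw [Subgroup.coe_pow, pow_succ, pow_two] at this
        exact this
      have e : (x : G)⁻¹ = (x : G) * x := inv_eq_of_mul_eq_one_right (by rw [← mul_assoc, h3'])
      have : ((x : G) * x * g)⁻¹ * (a : G) * ((x : G) * x * g) ∈ QG Q := a2
      rw [← e] at this
      rwa [show ((x : G)⁻¹ * g)⁻¹ * (a : G) * ((x : G)⁻¹ * g) =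
        g⁻¹ * ((x : G) * a * (x : G)⁻¹) * g by group] at this
    · rw [show x⁻¹ * (x * a * x⁻¹) * x = a by group]
      exact ((mem1 a).1 ha).1
  -- elements are linear
  have hM : ∀ a ∈ A1, a ∈ D.M := by
    intro a ha
    refine linear_mem F hz hzQ P a ?_
    have fix : ∀ b ∈ A1, b ∈ Q → D.ρ a (D.Φ b) = D.Φ b := fun b hb hbQ => by
      rw [D.conj a b hbQ, habel a ha b hb, mul_inv_cancel_right]
    rcases D.scal a with h | h
    · exact Equiv.ext fun u => by
        show D.ρ a (wEl u) = wEl (D.ρ a u)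
        rw [wEl_eq]; exact h u
    · exfalso
      have h1 := h (D.Φ s)
      rw [fix s hsA P.mem, ← Phi_conj D hρ P.mem, fix s1 hs1A P1.mem, hs1d,
        Phi_conj D hρ P.mem] at h1
      exact hv (funext fun i => w_fix _ (congrFun h1 i))
  have hCQ : ∀ c ∈ C, c ∈ Q → c = 1 ∨ c = zH z := fun c hc hq => Q_comm D hρ hq ((memC c).1 hc)
  have hzC : zH z ∈ C := (memC _).2 (zH_comm x).symm
  have hsC : s ∉ C := fun h => hne1 (by
    rw [hs1d, (memC s).1 h, mul_inv_cancel_right])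
  have hone : ∀ r ∈ A1, r ∈ Q → ∃ e ∈ ({1, zH z} : Set _), ∃ i : Fin 4,
      r = e * ![1, s, s1, s * s1] i := by
    intro r hr hrQ
    obtain ⟨hr1, hr2⟩ := (mem1 r).1 hr
    have ha : x⁻¹ * r * x ∈ Q := by simpa using hn.conj_mem r hrQ x⁻¹
    obtain ⟨c, hc⟩ := inter_line F hz hzQ P ha ((shift r).1 hr2) hrQ hr1 (by
      rw [← Phi_conj D hρ ha]; congr 1; group)
    have hrΦ : D.Φ r = wW (sm c (D.Φ s)) := by
      rw [← hc, ← Phi_conj D hρ ha]; congr 1; group
    rw [show wW (sm c (D.Φ s)) = sm (mu (0, 1) c) (D.Φ s) from sm_sm _ _ _] at hrΦ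
    have hk : ∃ i : Fin 4, D.Φ r = D.Φ (![1, s, s1, s * s1] i) := by
      rw [hrΦ]
      rcases line_cases (mu (0, 1) c) with h | h | h | h <;> rw [h]
      · exact ⟨0, by rw [sm_zero]; exact (Phi_one D).symm⟩
      · exact ⟨1, sm_one _⟩
      · exact ⟨2, (Phi_conj D hρ P.mem).symm⟩
      · refine ⟨3, ?_⟩
        show sm _ _ = D.Φ (s * s1)
        rw [← hprod, Phi_conj D hρ P1.mem, hs1d, Phi_conj D hρ P.mem, ← sm_sm]
        rfl
    obtain ⟨i, hi⟩ := hk
    have hiQ : ![1, s, s1, s * s1] i ∈ Q := by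
      fin_cases i
      · exact one_mem _
      · exact P.mem
      · exact P1.mem
      · exact mul_mem P.mem P1.mem
    rcases D.eq_or_mul hrQ hiQ hi with h | h
    · exact ⟨1, Or.inl rfl, i, by rw [one_mul]; exact Subtype.ext h⟩
    · exact ⟨zH z, Or.inr rfl, i, by rw [zH_comm]; exact Subtype.ext h⟩
  have hfour : ∀ i : Fin 4, ![1, s, s1, s * s1] i ∈ A1 := by
    intro i; fin_cases i
    · exact one_mem _
    · exact hsA
    · exact hs1A
    · exact mul_mem hsA hs1A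
  set A0 := A1 ⊓ C with hA0
  have hdec : ∀ a ∈ A1, ∃ b ∈ A0, ∃ i : Fin 4, a = b * ![1, s, s1, s * s1] i := by
    intro a ha
    set a1 := x * a * x⁻¹ with ha1
    set a2 := x * a1 * x⁻¹ with ha2
    have h1 := hinv a ha
    have h2 := hinv a1 h1
    have e3 : x * a2 * x⁻¹ = a := by
      rw [ha2, ha1, show x * (x * (x * a * x⁻¹) * x⁻¹) * x⁻¹ = x ^ 3 * a * (x ^ 3)⁻¹ by
        simp [pow_succ, mul_assoc], h3, one_mul, inv_one, mul_one]
    set n := a * a1 * a2 with hn'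
    have hnA : n ∈ A1 := mul_mem (mul_mem ha h1) h2
    have hnC : n ∈ C := by
      rw [memC, ← mul_inv_eq_iff_eq_mul, hn',
        show x * (a * a1 * a2) * x⁻¹ = x * a * x⁻¹ * (x * a1 * x⁻¹) * (x * a2 * x⁻¹) by group,
        e3, ← ha1, ← ha2, habel (a1 * a2) (mul_mem h1 h2) a ha, ← mul_assoc]
    have hρ1 : D.ρ a1 = D.ρ a := by
      rw [ha1, _root_.map_mul, _root_.map_mul, map_inv, hρ, (rho_wEl_comm D (hM a ha)).eq,
        mul_inv_cancel_right]
    have hρ2 : D.ρ a2 = D.ρ a := by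
      rw [ha2, _root_.map_mul, _root_.map_mul, map_inv, hρ, (rho_wEl_comm D (hM a1 h1)).eq,
        mul_inv_cancel_right, hρ1]
    have hr : n * a ∈ Q := by
      rw [← rho_eq_one D, hn', _root_.map_mul, _root_.map_mul, _root_.map_mul, hρ1, hρ2,
        ← _root_.map_mul, hsq a ha, map_one, one_mul, ← _root_.map_mul, hsq a ha, map_one]
    obtain ⟨e, he, i, hi⟩ := hone _ (mul_mem hnA ha) hr
    have hni : n⁻¹ = n := inv_eq_of_mul_eq_one_right (hsq n hnA)
    refine ⟨n * e, ?_, i, ?_⟩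
    · refine mul_mem ⟨hnA, hnC⟩ ?_
      rcases he with rfl | rfl
      · exact one_mem _
      · exact ⟨hzA, hzC⟩
    · rw [mul_assoc, ← hi, ← mul_assoc, hsq n hnA, one_mul]
  have hA0card : 32 ≤ Nat.card A0 := by
    have hsurj0 : Function.Surjective (fun p : A0 × Fin 4 =>
        (⟨(p.1 : Subgroup.centralizer ({z} : Set G)) * ![1, s, s1, s * s1] p.2,
          mul_mem p.1.2.1 (hfour p.2)⟩ : A1)) := by
      rintro ⟨a, ha⟩
      obtain ⟨b, hb, i, rfl⟩ := hdec a ha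
      exact ⟨(⟨b, hb⟩, i), rfl⟩
    have := Nat.card_le_card_of_surjective _ hsurj0
    rw [Nat.card_prod, Nat.card_fin, hcard] at this
    omega
  set L := ⁅C, C⁆ with hL
  have hLC : L ≤ C := Subgroup.commutator_le.2 fun a ha b hb => by
    rw [commutatorElement_def]
    exact mul_mem (mul_mem (mul_mem ha hb) (inv_mem ha)) (inv_mem hb)
  have hLρ : ∀ k ∈ K0, ∃ l ∈ L, D.ρ l = k := by
    intro k hk
    have hK : K0 ≤ C.map D.ρ := fun k hk => by
      obtain ⟨c, hc, he⟩ := map_cent D hE hρ h3 hz hk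
      exact ⟨c, (memC c).2 hc, he⟩
    have : k ∈ L.map D.ρ := by
      rw [hL, Subgroup.map_commutator]
      exact Subgroup.commutator_mono hK hK (hK0.symm ▸ hk)
    exact this
  have hLQ : ∀ l ∈ L, l ∈ Q → l = 1 := fun l hl hq =>
    (hCQ l (hLC hl) hq).resolve_right fun e => hzL (e ▸ hl)
  have hA0L : ∀ c ∈ A0, ∃ b ∈ A0 ⊓ L, ∃ i : Fin 2, c = b * ![1, zH z] i := by
    rintro c ⟨hcA, hcC⟩
    obtain ⟨l, hl, he⟩ := hLρ _ (D.rho_mem c (hM c hcA))
    have hq : l⁻¹ * c ∈ Q := by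
      rw [← rho_eq_one D, _root_.map_mul, map_inv, he, inv_mul_cancel]
    rcases hCQ _ (mul_mem (inv_mem (hLC hl)) hcC) hq with h | h
    · rw [inv_mul_eq_one] at h; subst h
      exact ⟨l, ⟨⟨hcA, hcC⟩, hl⟩, 0, (mul_one l).symm⟩
    · rw [inv_mul_eq_iff_eq_mul] at h
      have hzz : zH z * zH z = 1 := hsq _ hzA
      have hl' : l = c * zH z := by rw [h, mul_assoc, hzz, mul_one]
      exact ⟨l, ⟨⟨hl' ▸ mul_mem hcA hzA, hLC hl⟩, hl⟩, 1, h⟩
  have hA0Lcard : 16 ≤ Nat.card ↥(A0 ⊓ L) := by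
    have hfin : ∀ i : Fin 2, ![1, zH z] i ∈ A0 := by
      intro i; fin_cases i
      · exact one_mem _
      · exact ⟨hzA, hzC⟩
    have hsurj0 : Function.Surjective (fun p : ↥(A0 ⊓ L) × Fin 2 =>
        (⟨(p.1 : Subgroup.centralizer ({z} : Set G)) * ![1, zH z] p.2,
          mul_mem p.1.2.1 (hfin p.2)⟩ : A0)) := by
      rintro ⟨c, hc⟩
      obtain ⟨b, hb, i, rfl⟩ := hA0L c hc
      exact ⟨(⟨b, hb⟩, i), rfl⟩
    have := Nat.card_le_card_of_surjective _ hsurj0
    rw [Nat.card_prod, Nat.card_fin] at this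
    omega
  have hle : A0 ⊓ L ≤ A1 := inf_le_left.trans inf_le_left
  set U := ((A0 ⊓ L).subgroupOf A1).map φ with hU
  have hUcard : 16 ≤ Nat.card U := by
    have e : Nat.card U = Nat.card ↥(A0 ⊓ L) := by
      rw [hU, Subgroup.card_map_of_injective hinj, Nat.card_congr (Subgroup.subgroupOfEquivOfLe hle).toEquiv]
    omega
  have hUz : zH z ∉ U := by
    rintro ⟨a, ha, he⟩
    have he' : g⁻¹ * ((a : Subgroup.centralizer ({z} : Set G)) : G) * g = z := congrArg Subtype.val he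
    have : (a : Subgroup.centralizer ({z} : Set G)) = s := Subtype.ext (by
      rw [P.eq]
      calc ((a : Subgroup.centralizer ({z} : Set G)) : G)
          = g * (g⁻¹ * ((a : Subgroup.centralizer ({z} : Set G)) : G) * g) * g⁻¹ := by group
        _ = _ := by rw [he'])
    exact hsC (this ▸ (Subgroup.mem_subgroupOf.1 ha).1.2)
  obtain ⟨u, ⟨a, ha, rfl⟩, w, ⟨b, hb, rfl⟩, hu1, hw1, hne⟩ :=
    F.flat _ _ Pt U (by rintro _ ⟨a, -, rfl⟩; exact hφ a) hUcard hUz
  refine hne ?_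
  obtain ⟨⟨ha0, haC⟩, haL⟩ := Subgroup.mem_subgroupOf.1 ha
  obtain ⟨⟨hb0, hbC⟩, hbL⟩ := Subgroup.mem_subgroupOf.1 hb
  have hra : D.ρ (a : Subgroup.centralizer ({z} : Set G)) ≠ 1 := fun e => hu1 (by
    rw [show a = 1 from Subtype.ext (hLQ _ haL ((rho_eq_one D).1 e)), map_one])
  have hrb : D.ρ (b : Subgroup.centralizer ({z} : Set G)) ≠ 1 := fun e => hw1 (by
    rw [show b = 1 from Subtype.ext (hLQ _ hbL ((rho_eq_one D).1 e)), map_one])
  obtain ⟨k, hk, hkab⟩ := F.fuse g s P _ ⟨((mem1 _).1 a.2).1, hM _ a.2⟩ _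
    ⟨((mem1 _).1 b.2).1, hM _ b.2⟩ hra hrb
  obtain ⟨l, hl, rfl⟩ := hLρ k hk
  have hab : l * (a : Subgroup.centralizer ({z} : Set G)) * l⁻¹ = b := by
    have hmem := mul_mem (mul_mem hl haL) (inv_mem hl)
    exact (inv_mul_eq_one.1 (hLQ _ (mul_mem (inv_mem hbL) hmem) (by
      rw [← rho_eq_one D, _root_.map_mul, map_inv, _root_.map_mul, _root_.map_mul, map_inv, hkab,
        inv_mul_cancel]))).symm
  have hconj : IsConj ((φ a : Subgroup.centralizer ({z} : Set G)) : G) (φ b : G) := by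
    rw [isConj_iff]
    refine ⟨g⁻¹ * (l : G) * g, ?_⟩
    show g⁻¹ * (l : G) * g * (g⁻¹ * ((a : Subgroup.centralizer ({z} : Set G)) : G) * g) *
      (g⁻¹ * (l : G) * g)⁻¹ = g⁻¹ * ((b : Subgroup.centralizer ({z} : Set G)) : G) * g
    rw [← congrArg Subtype.val hab]
    simp only [Subgroup.coe_mul, Subgroup.coe_inv]
    group
  exact ⟨fun h => h.trans hconj, fun h => h.trans hconj.symm⟩

end H88.Fi24Cent
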