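import Cfsg.Agent.H88.Fi24Cent.Trans
import Cfsg.Agent.H88.Fi24Cent.Conj

/-!
Identification of the image of the intersection with one of the three candidates, at the base vector.
-/

set_option autoImplicit false
set_option maxHeartbeats 400000

namespace H88.Fi24Cent

open H16.Fi24 Cert

universe u

variable {G : Type u} [Group G] [Finite G] {z : G}
  {Q : Subgroup (Subgroup.centralizer ({z} : Set G))} [hn : Q.Normal] {D : Model z Q}
  {g : G} {s : Subgroup.centralizer ({z} : Set G)}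

theorem eq_mul_z {p q : Subgroup.centralizer ({z} : Set G)} (hp : p ∈ Q) (hq : q ∈ Q)
    (e : D.Φ p = D.Φ q) : p = q ∨ p = q * zH z :=
  (D.eq_or_mul hp hq e).imp Subtype.ext Subtype.ext

include D in
/-- The intersection is an elementary abelian group. -/
theorem R_comm (P : Pair Q g s) {a b : Subgroup.centralizer ({z} : Set G)}
    (ha : a ∈ Q ⊓ conjQ Q g) (hb : b ∈ Q ⊓ conjQ Q g) : a * b = b * a := by
  rcases commutator_Q D ha.1 hb.1 with i1 | i1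
  · exact mul_inv_eq_iff_eq_mul.1 i1
  have i2 := commutator_QG D (mem_conjQ.1 ha.2) (mem_conjQ.1 hb.2)
  rw [← P.eq] at i2
  rcases i2 with i2 | i2
  · exact Subtype.ext (mul_inv_eq_iff_eq_mul.1 i2)
  · exact absurd (mul_left_cancel (i2.symm.trans (congrArg Subtype.val i1))) P.ne

include D in
theorem R_sq (P : Pair Q g s) (hzQ : zH z ∈ Q) {a : Subgroup.centralizer ({z} : Set G)}
    (ha : a ∈ Q ⊓ conjQ Q g) : a * a = 1 := by
  rcases eq_zero' D (mul_mem ha.1 ha.1) (by rw [D.map_mul a ha.1 a ha.1, add_self_W]) with h | h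
  · exact h
  exfalso
  obtain ⟨p, hp, hpe⟩ := mem_QG.1 (mem_conjQ.1 ha.2)
  have hG : (a : G) * a = z := congrArg Subtype.val h
  have hpp : (p : G) * p = g⁻¹ * z * g := by
    rw [hpe]
    calc g⁻¹ * (a : G) * g * (g⁻¹ * (a : G) * g) = g⁻¹ * ((a : G) * a) * g := by group
      _ = g⁻¹ * z * g := by rw [hG]
  rcases eq_zero' D (mul_mem hp hp) (by rw [D.map_mul p hp p hp, add_self_W]) with h' | h'
  · have : (p : G) * p = 1 := congrArg Subtype.val h'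
    rw [hpp] at this
    have hz1 : z = 1 := by
      calc z = g * (g⁻¹ * z * g) * g⁻¹ := by group
        _ = 1 := by rw [this]; group
    exact P.ne (by rw [P.eq, hz1]; group)
  · have : (p : G) * p = z := congrArg Subtype.val h'
    rw [hpp] at this
    exact P.ne (by
      rw [P.eq]
      calc g * z * g⁻¹ = g * (g⁻¹ * z * g) * g⁻¹ := by rw [this]
        _ = z := by group)

/-- Images are invariant under the stabiliser of the image of the conjugate. -/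
theorem R_invariant (P : Pair Q g s) (hzQ : zH z ∈ Q) (hzg : zH z ∈ conjQ Q g) (hv : D.Φ s ≠ 0)
    {k : Equiv.Perm W} (hk : k ∈ K0) (hkv : k (D.Φ s) = D.Φ s)
    {a : Subgroup.centralizer ({z} : Set G)} (ha : a ∈ Q ⊓ conjQ Q g) :
    ∃ b ∈ Q ⊓ conjQ Q g, D.Φ b = k (D.Φ a) := by
  obtain ⟨m, -, rfl⟩ := D.exists_rho hk
  obtain ⟨m', hm', hms⟩ : ∃ m', D.ρ m' = D.ρ m ∧ m' * s * m'⁻¹ = s := by
    have hms : m * s * m⁻¹ ∈ Q := hn.conj_mem s P.mem m
    rcases eq_mul_z hms P.mem (by rw [← D.conj m s P.mem, hkv]) with h | h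
    · exact ⟨m, rfl, h⟩
    obtain ⟨y, hy, hsy⟩ := D.exists_move P.mem hv
    have hys : y * s * y⁻¹ = s * zH z := by
      rcases commutator_Q D hy P.mem with h' | h'
      · exact absurd (mul_inv_eq_iff_eq_mul.1 h').symm hsy
      · exact h'
    refine ⟨y * m, by rw [_root_.map_mul, (rho_eq_one D).2 hy, one_mul], ?_⟩
    rw [show y * m * s * (y * m)⁻¹ = y * (m * s * m⁻¹) * y⁻¹ by group, h,
      show y * (s * zH z) * y⁻¹ = y * s * (zH z * y⁻¹) by group, zH_comm, ← mul_assoc, hys, mul_assoc,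
      show zH z * zH z = 1 from R_sq (D := D) P hzQ ⟨hzQ, hzg⟩, mul_one]
  refine ⟨m' * a * m'⁻¹, ⟨hn.conj_mem a ha.1 m', ?_⟩, by rw [← hm', D.conj m' a ha.1]⟩
  refine inConj_congr ?_ (inConj_left (h := (m' : G)) (mem_conjQ.1 ha.2))
  have h' : (m' : G) * s * (m' : G)⁻¹ = s := congrArg Subtype.val hms
  rw [show (m' : G) * g * z * ((m' : G) * g)⁻¹ = (m' : G) * (g * z * g⁻¹) * (m' : G)⁻¹ by group,
    ← P.eq, h']

variable (D)

/-- The lifts of a set of vectors. -/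
theorem R_lifts {ι : Type} [Finite ι] (hcard : Nat.card ↥(Q ⊓ conjQ Q g) = 128) (f : ι → W)
    (hι : Nat.card ι ≤ 64) (hsub : ∀ a ∈ Q ⊓ conjQ Q g, ∃ i, D.Φ a = f i) :
    Nat.card ι = 64 ∧ ∀ q ∈ Q, ∀ i, D.Φ q = f i → q ∈ conjQ Q g := by
  choose r hr hrΦ using fun i => D.surj (f i)
  let ψ : ι × Bool → Subgroup.centralizer ({z} : Set G) := fun p =>
    if p.2 then r p.1 * zH z else r p.1
  have hrange : ∀ q ∈ Q, ∀ i, D.Φ q = f i → q ∈ Set.range ψ := by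
    intro q hq i e
    rcases eq_mul_z hq (hr i) (e.trans (hrΦ i).symm) with h | h
    · exact ⟨(i, false), h.symm⟩
    · exact ⟨(i, true), h.symm⟩
  have hsub' : (↑(Q ⊓ conjQ Q g) : Set (Subgroup.centralizer ({z} : Set G))) ⊆ Set.range ψ := fun a ha => by
    obtain ⟨i, hi⟩ := hsub a ha
    exact hrange a ha.1 i hi
  have hle : (Set.range ψ).ncard ≤ Nat.card ι * 2 := by
    rw [← Nat.card_coe_set_eq]
    refine (Finite.card_range_le ψ).trans ?_
    rw [Nat.card_prod, Nat.card_eq_fintype_card (α := Bool), Fintype.card_bool]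
  have h128 : (↑(Q ⊓ conjQ Q g) : Set (Subgroup.centralizer ({z} : Set G))).ncard = 128 := by
    rw [← Nat.card_coe_set_eq]; exact hcard
  have hmono := Set.ncard_le_ncard hsub' (Set.finite_range ψ)
  have hEq : (↑(Q ⊓ conjQ Q g) : Set (Subgroup.centralizer ({z} : Set G))) = Set.range ψ :=
    Set.eq_of_subset_of_ncard_le hsub' (by omega) (Set.finite_range ψ)
  refine ⟨by omega, fun q hq i e => ?_⟩
  have : q ∈ (↑(Q ⊓ conjQ Q g) : Set (Subgroup.centralizer ({z} : Set G))) := hEq ▸ hrange q hq i e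
  exact this.2

variable {D}

/-- The image is one of the candidates. -/
theorem R_identify (P : Pair Q g s) (hzQ : zH z ∈ Q) (hzg : zH z ∈ conjQ Q g) (hv : D.Φ s = v0)
    (hcard : Nat.card ↥(Q ⊓ conjQ Q g) = 128) :
    ∃ k : ZMod 3, (∀ a ∈ Q ⊓ conjQ Q g, ∃ m f, D.Φ a = sm (pw k) (el m f)) ∧
      ∀ q ∈ Q, ∀ m f, D.Φ q = sm (pw k) (el m f) → q ∈ conjQ Q g := by
  have hv0 : D.Φ s ≠ 0 := by rw [hv]; decide
  have hs : s ∈ Q ⊓ conjQ Q g := ⟨P.mem, P.mem_conjQ hzQ⟩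
  have hB : ∀ a ∈ Q ⊓ conjQ Q g, ∀ b ∈ Q ⊓ conjQ Q g, Bf (D.Φ a) (D.Φ b) = 0 :=
    fun a ha b hb => (D.comm a ha.1 b hb.1).1 (R_comm (D := D) P ha hb)
  have imgs : ∀ l, wd l v0 = v0 → ∀ a ∈ Q ⊓ conjQ Q g, ∃ b ∈ Q ⊓ conjQ Q g, D.Φ b = wd l (D.Φ a) :=
    fun l hl a ha => R_invariant P hzQ hzg hv0 (wd_mem l) (by rw [hv]; exact hl) ha
  have lA' := eq_lin (isUni_K0 (wd_mem lA)) wd_A
  have lB' := eq_lin (isUni_K0 (wd_mem lB)) wd_B
  have iA : ∀ a ∈ Q ⊓ conjQ Q g, ∃ b ∈ Q ⊓ conjQ Q g, D.Φ b = lin cA (D.Φ a) := fun a ha => by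
    obtain ⟨b, hb, e⟩ := imgs lA (by rw [lA', fix_v0.1]) a ha
    exact ⟨b, hb, by rw [e, lA']⟩
  have iB : ∀ a ∈ Q ⊓ conjQ Q g, ∃ b ∈ Q ⊓ conjQ Q g, D.Φ b = lin cB (D.Φ a) := fun a ha => by
    obtain ⟨b, hb, e⟩ := imgs lB (by rw [lB', fix_v0.2]) a ha
    exact ⟨b, hb, by rw [e, lB']⟩
  have hU : ∀ a ∈ Q ⊓ conjQ Q g, ∃ k m f, D.Φ a = sm (pw k) (el m f) := by
    intro a ha
    obtain ⟨b, hb, eb⟩ := iA a ha
    obtain ⟨c, hc, ec⟩ := iB a ha
    obtain ⟨d, hd, ed⟩ := iA b hb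
    obtain ⟨e, he, ee⟩ := iA c hc
    obtain ⟨f, hf, ef⟩ := iB b hb
    obtain ⟨q, hq, eq⟩ := iB c hc
    obtain ⟨k, hk⟩ := filter_ok (D.Φ a) ((D.sq a ha.1).1 (R_sq (D := D) P hzQ ha)) (hv ▸ hB s hs a ha) (by
      rw [← eb, ← ec, ← ed, ← ee, ← ef, ← eq]
      simp only [flt, hB _ ha _ hb, hB _ ha _ hc, hB _ ha _ hd, hB _ ha _ he, hB _ ha _ hf, hB _ ha _ hq,
        hB _ hb _ hc, hB _ hb _ hd, hB _ hb _ he, hB _ hb _ hf, hB _ hb _ hq,
        hB _ hc _ hd, hB _ hc _ he, hB _ hc _ hf, hB _ hc _ hq,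
        hB _ hd _ he, hB _ hd _ hf, hB _ hd _ hq, hB _ he _ hf, hB _ he _ hq, hB _ hf _ hq]
      decide)
    obtain ⟨m, f', e'⟩ := el_of_inR k _ hk
    exact ⟨k, m, f', e'⟩
  obtain ⟨a0, ha0, k, m0, f0, hm0, e0⟩ :
      ∃ a ∈ Q ⊓ conjQ Q g, ∃ k m f, m ≠ 0 ∧ D.Φ a = sm (pw k) (el m f) := by
    by_contra hno
    push Not at hno
    have h := R_lifts D hcard (fun c : F4 => sm c v0) (by simp) fun a ha => by
      obtain ⟨k, m, f, e⟩ := hU a ha
      have hm : m = 0 := by_contra fun hm => hno a ha k m f hm e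
      refine ⟨mu (pw k) f, ?_⟩
      rw [e, hm]
      simp only [el, Pi.zero_apply, Prod.mk_zero_zero, sm_zero, zero_add, sm_sm]
    simp at h
  have hsubk : ∀ b ∈ Q ⊓ conjQ Q g, ∃ p : (Fin 4 → ZMod 2) × F4,
      D.Φ b = sm (pw k) (el p.1 p.2) := by
    intro b hb
    obtain ⟨j, m, f, e⟩ := hU b hb
    by_cases hm : m = 0
    · subst hm
      refine ⟨(0, mu (pw (j - k)) f), ?_⟩
      rw [e]
      simp only [el, Pi.zero_apply, Prod.mk_zero_zero, sm_zero, zero_add, sm_sm, ← mu_assoc, ← pw_add,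
        add_sub_cancel]
    refine ⟨(m, f), ?_⟩
    obtain ⟨c, hc, ec⟩ := iA a0 ha0
    obtain ⟨d, hd, ed⟩ := iB a0 ha0
    have hin : ∀ p ∈ Q ⊓ conjQ Q g, inU (D.Φ p + D.Φ b) = true := by
      intro p hp
      obtain ⟨i, m', f', e'⟩ := hU (p * b) (mul_mem hp hb)
      rw [inU_iff]
      exact ⟨i, by rw [← D.map_mul p hp.1 b hb.1, e']; exact inR_el i m' f'⟩
    have h1 := hin a0 ha0
    have h2 := hin c hc
    have h3 := hin d hd
    rw [ec] at h2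
    rw [ed] at h3
    rw [e, e0] at h1 h2 h3
    rw [mix_ok k m0 f0 hm0 j m f hm h1 h2 h3, e]
  obtain ⟨-, hlift⟩ := R_lifts D hcard (fun p : (Fin 4 → ZMod 2) × F4 => sm (pw k) (el p.1 p.2))
    (by simp) hsubk
  exact ⟨k, fun a ha => by obtain ⟨p, hp⟩ := hsubk a ha; exact ⟨p.1, p.2, hp⟩,
    fun q hq m f e => hlift q hq (m, f) e⟩

end H88.Fi24Cent
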