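import Cfsg.Agent.H88.Fi24Cent.Cert2

/-!
The transvection-like elements attached to a candidate are determined by their functional and are
conjugate to one another.
-/

set_option autoImplicit false

namespace H88.Fi24Cent.Cert

open H16.Fi24

theorem sm_add' (a : F4) (u v : W) : sm a (u + v) = sm a u + sm a v := funext fun _ => mu_add _ _ _

theorem add_sm (a b : F4) (v : W) : sm (a + b) v = sm a v + sm b v := funext fun i => by
  show mu (a + b) (v i) = mu a (v i) + mu b (v i)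
  rw [mu_comm, mu_add, mu_comm (v i), mu_comm (v i)]

theorem wW_eq_sm (v : W) : wW v = sm (0, 1) v := rfl

theorem four_coef : ∀ c : F4, ∀ a b : ZMod 2, mu (a, 0) (mu c (b, 0)) = mu c (a * b, 0) := by decide

theorem coef_add : ∀ c : F4, ∀ a b : ZMod 2, mu c (a, 0) + mu c (b, 0) = mu c (a + b, 0) := by decide

theorem coef_inj : ∀ k : ZMod 3, ∀ a b : ZMod 2, mu (pw (-k)) (a, 0) = mu (pw (-k)) (b, 0) → a = b := by
  decide

/-- An element of the group acting as a transvection with functional `s` on the candidate `k`. -/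
structure IsTr (k : ZMod 3) (g : Equiv.Perm W) (s : Fin 4 → ZMod 2) : Prop where
  mem : g ∈ K0
  fix : g v0 = v0
  move : ∀ i, g (us i) = us i + sm (mu (pw (-k)) (s i, 0)) v0

variable {k : ZMod 3} {g g' : Equiv.Perm W} {s s' : Fin 4 → ZMod 2}

theorem IsTr.on_el (h : IsTr k g s) (m : Fin 4 → ZMod 2) (f : F4) :
    g (el m f) = el m f + sm (mu (pw (-k)) (m 0 * s 0 + m 1 * s 1 + m 2 * s 2 + m 3 * s 3, 0)) v0 := by
  have hu := isUni_K0 h.mem
  simp only [el, hu.add, hu.sm_comm, h.move, h.fix, sm_add', sm_sm, four_coef, ← coef_add, add_sm]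
  abel

theorem fix_all (hg : g ∈ K0) (hv : g v0 = v0) (hu : ∀ i, g (us i) = us i) : g = 1 := by
  have hU := isUni_K0 hg
  have hel : ∀ m f, g (el m f) = el m f := fun m f => by
    simp only [el, hU.add, hU.sm_comm, hu, hv]
  have hwel : ∀ m f, g (wW (el m f)) = wW (el m f) := fun m f => by rw [hU.wcomm, hel]
  have hy : g (bv 0) = bv 0 := by
    set y := g (bv 0) + bv 0 with hyd
    have hgy : g (bv 0) = bv 0 + y := by
      rw [hyd, add_left_comm]
      have : (bv 0 : W) + bv 0 = 0 := funext fun i => by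
        show bv 0 i + bv 0 i = 0
        generalize bv 0 i = a
        revert a; decide
      rw [this, add_zero]
    have hperp : ∀ u, g u = u → Bf y u = 0 := by
      intro u hu'
      have h1 := hU.Bf_eq (bv 0) u
      rw [hu', hgy] at h1
      have hbl : Bf (bv 0 + y) u = Bf (bv 0) u + Bf y u := by
        have hq : ∀ x : W, qf x = ∑ j, (nz (x j) : ZMod 2) := fun x => by
          simp only [qf, cnt, Fin.sum_univ_six, Nat.cast_add]
        have hb : ∀ a b c : F4, (nz (a + b + c) : ZMod 2) + nz (a + b) + nz c =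
            ((nz (a + c) : ZMod 2) + nz a + nz c) + ((nz (b + c) : ZMod 2) + nz b + nz c) := by decide
        simp only [Bf, hq, ← Finset.sum_add_distrib, Pi.add_apply]
        exact Finset.sum_congr rfl fun j _ => hb _ _ _
      rw [hbl] at h1
      exact add_eq_left.1 h1
    obtain ⟨c, hc⟩ := perp_ok y (fun i => ⟨hperp _ (hu i), hperp _ (by rw [hU.wcomm, hu])⟩)
      (hperp _ hv) (hperp _ (by rw [hU.wcomm, hv]))
    by_contra hne
    have hc0 : c ≠ 0 := fun e => hne (by rw [hgy, hc, e, sm_zero, add_zero])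
    obtain ⟨a, m, f, hl⟩ := witness_ok c hc0
    refine hl ?_
    have e : g (sm a (bv 0) + el m f) = sm a (bv 0 + sm c v0) + el m f := by
      rw [hU.add, hU.sm_comm, hel, hgy, hc]
    rw [← e, lab_K0 hg]
  have hb : ∀ j, g (bv j) = bv j := by
    intro j
    obtain ⟨c, m, f, m', f', e⟩ := basis_ok j
    rw [e, hU.add, hU.add, hU.sm_comm, hy, hel, hwel]
  exact Equiv.ext fun v => congrFun (IsUni.ext_basis (g := ⇑g) hU (h := id)
    ⟨fun _ _ => rfl, fun _ => rfl, fun _ => rfl⟩ hb) v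

theorem IsTr.eq (h : IsTr k g s) (h' : IsTr k g' s) : g = g' := by
  have hU := isUni_K0 h'.mem
  refine (inv_mul_eq_one.1 (fix_all (g := g'⁻¹ * g) (mul_mem (inv_mem h'.mem) h.mem) ?_ fun i => ?_)).symm
  · show g'.symm (g v0) = v0
    rw [h.fix, Equiv.symm_apply_eq, h'.fix]
  · show g'.symm (g (us i)) = us i
    rw [h.move, Equiv.symm_apply_eq, h'.move]

theorem IsTr.ne_one (h : IsTr k g s) (hne : g ≠ 1) : s ≠ 0 := fun e => hne (h.eq (by
  refine ⟨one_mem _, rfl, fun i => ?_⟩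
  rw [e]
  show us i = us i + sm (mu (pw (-k)) ((0 : ZMod 2), 0)) v0
  rw [show mu (pw (-k)) ((0 : ZMod 2), 0) = 0 from mu_zero _, sm_zero, add_zero]))

theorem IsTr.conj (h : IsTr k g s) {w : Equiv.Perm W} (hw : w ∈ K0) (hw0 : w v0 = v0)
    {co : Fin 4 → Fin 4 → ZMod 2} (hco : ∀ i, ∃ f, w (us i) = el (co i) f) :
    IsTr k (w⁻¹ * g * w) (stp co s) := by
  refine ⟨mul_mem (mul_mem (inv_mem hw) h.mem) hw, ?_, fun i => ?_⟩
  · show w.symm (g (w v0)) = v0
    rw [hw0, h.fix, Equiv.symm_apply_eq, hw0]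
  · obtain ⟨f, hf⟩ := hco i
    show w.symm (g (w (us i))) = _
    rw [Equiv.symm_apply_eq, (isUni_K0 hw).add, (isUni_K0 hw).sm_comm, hw0, hf, h.on_el]
    rfl

theorem IsTr.to_base (n : ℕ) : ∀ {g : Equiv.Perm W} {s : Fin 4 → ZMod 2}, IsTr k g s →
    good n s = true → ∃ w ∈ K0, IsTr k (w⁻¹ * g * w) ![1, 0, 0, 0] := by
  induction n with
  | zero =>
    intro g s h hg
    simp only [good, decide_eq_true_eq] at hg
    exact ⟨1, one_mem _, by rwa [inv_one, one_mul, mul_one, ← hg]⟩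
  | succ n ih =>
    intro g s h hg
    simp only [good, Bool.or_eq_true, decide_eq_true_eq] at hg
    have step : ∀ (w : Equiv.Perm W) (co : Fin 4 → Fin 4 → ZMod 2), w ∈ K0 → w v0 = v0 →
        (∀ i, ∃ f, w (us i) = el (co i) f) → good n (stp co s) = true →
        ∃ u ∈ K0, IsTr k (u⁻¹ * g * u) ![1, 0, 0, 0] := by
      intro w co hw hw0 hco hgo
      obtain ⟨u, hu, hu'⟩ := ih (h.conj hw hw0 hco) hgo
      exact ⟨w * u, mul_mem hw hu, by
        rwa [show (w * u)⁻¹ * g * (w * u) = u⁻¹ * (w⁻¹ * g * w) * u by group]⟩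
    have lA' := eq_lin (isUni_K0 (wd_mem lA)) wd_A
    have lB' := eq_lin (isUni_K0 (wd_mem lB)) wd_B
    rcases hg with (hg | hg) | hg
    · exact ⟨1, one_mem _, by rwa [inv_one, one_mul, mul_one, ← hg]⟩
    · exact step _ coA (wd_mem lA) (by rw [lA', fix_v0.1]) (fun i => by rw [lA']; exact coA_ok i) hg
    · exact step _ coB (wd_mem lB) (by rw [lB', fix_v0.2]) (fun i => by rw [lB']; exact coB_ok i) hg

/-- Nontrivial transvection-like elements are conjugate. -/
theorem IsTr.conjugate (h : IsTr k g s) (h' : IsTr k g' s') (hne : g ≠ 1) (hne' : g' ≠ 1) :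
    ∃ c ∈ K0, c * g * c⁻¹ = g' := by
  obtain ⟨w, hw, e⟩ := h.to_base 8 (good_ok s (h.ne_one hne))
  obtain ⟨w', hw', e'⟩ := h'.to_base 8 (good_ok s' (h'.ne_one hne'))
  refine ⟨w' * w⁻¹, mul_mem hw' (inv_mem hw), ?_⟩
  have := e.eq e'
  calc w' * w⁻¹ * g * (w' * w⁻¹)⁻¹ = w' * (w⁻¹ * g * w) * w'⁻¹ := by group
    _ = w' * (w'⁻¹ * g' * w') * w'⁻¹ := by rw [this]
    _ = g' := by group

end H88.Fi24Cent.Cert
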